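import Groth.Agent.GalCoh84.CdTorsion
import Groth.Agent.S0109
import Groth.Agent.Unr55.Et.ArtinSchreierEt

/-!
# Criteria for cohomological dimension of fields
-/

set_option autoImplicit false
set_option backward.isDefEq.respectTransparency.types false
universe u

open CategoryTheory CategoryTheory.Limits CategoryTheory.Abelian AlgebraicGeometry Opposite
open Groth.Agent Groth.Agent.Unr55.EtSh

namespace Groth.Agent.GalCoh84

universe w v'

theorem eq_zero_of_les₁ {A : Type*} [Category.{v'} A] [Abelian A] [HasExt.{w} A] {S : ShortComplex A}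
    (hS : S.ShortExact) {M : A} {n : ℕ} (h₂ : Subsingleton (Ext.{w} M S.X₂ (n + 1)))
    (h₃ : Subsingleton (Ext.{w} M S.X₃ n)) (x : Ext.{w} M S.X₁ (n + 1)) : x = 0 := by
  obtain ⟨c, rfl⟩ := exists_comp_extClass hS (rfl : n + 1 = n + 1) x
  rw [Subsingleton.elim c 0, Ext.zero_comp]

theorem eq_zero_of_les_shift {A : Type*} [Category.{v'} A] [Abelian A] [HasExt.{w} A] {S : ShortComplex A}
    (hS : S.ShortExact) {M : A} {n a : ℕ} (h₂ : Subsingleton (Ext.{w} M S.X₂ (n + 1)))
    (h₂' : Subsingleton (Ext.{w} M S.X₂ n))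
    (h₃ : ∀ y : Ext.{w} M S.X₃ n, a • y = 0 → y = 0) (x : Ext.{w} M S.X₁ (n + 1)) (hx : a • x = 0) : x = 0 := by
  obtain ⟨c, rfl⟩ := exists_comp_extClass hS (rfl : n + 1 = n + 1) x
  rw [h₃ c (eq_zero_of_comp_extClass hS rfl _ ((nsmul_comp_extClass hS rfl a c).symm.trans hx)), Ext.zero_comp]

/-- Cohomology of a separably closed field vanishes in positive degree. -/
theorem H_sepClosed_eq_zero {K : Type u} [Field K] [IsSepClosed K] {F : EtCoh.Ab (Spec (CommRingCat.of K))} {i : ℕ}
    (hi : 0 < i) (α : EtCoh.H (Spec (CommRingCat.of K)) F i) : α = 0 := by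
  obtain ⟨n, rfl⟩ := Nat.exists_eq_add_one.2 hi
  obtain ⟨L, _, _, _, _, _, h⟩ := exists_killing_aux n F α
  have e := finrank_nsmul_eq_zero_aux L n F α h
  have hb : Function.Bijective (Algebra.ofId K L) :=
    ⟨(algebraMap K L).injective, IsSepClosed.algebraMap_surjective K L⟩
  rwa [← (AlgEquiv.ofBijective _ hb).toLinearEquiv.finrank_eq, Module.finrank_self, one_smul] at e

/-- Dimension shifting to higher degrees. -/
theorem eq_zero_higher {k : Type u} [Field k] {p n : ℕ} (hn : 0 < n)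
    (h : ∀ (F : EtCoh.Ab (Spec (CommRingCat.of k))), EtCoh.IsTorsion F →
      ∀ x : EtCoh.H (Spec (CommRingCat.of k)) F n, (∃ m : ℕ, p ^ m • x = 0) → x = 0) :
    ∀ (j : ℕ) (F : EtCoh.Ab (Spec (CommRingCat.of k))), EtCoh.IsTorsion F →
      ∀ x : EtCoh.H (Spec (CommRingCat.of k)) F (n + j), (∃ m : ℕ, p ^ m • x = 0) → x = 0 := by
  intro j
  induction j with
  | zero => exact h
  | succ j ih =>
    rintro F hF x ⟨m, hm⟩
    let Ks := SeparableClosure k
    let f := Spec.map (CommRingCat.ofHom (algebraMap k Ks))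
    have : IsIntegralHom f := IsIntegralHom.SpecMap_iff.2 (algebraMap_isIntegral_iff.2 inferInstance)
    let u := (EtCoh.pullPushAdj f).unit.app F
    have : Mono u := mono_of_stalks u fun Ω _ _ η => by
      obtain ⟨φ, rfl⟩ := Spec.map_surjective η
      let : Algebra k Ω := φ.hom.toAlgebra
      let σ : Ks →ₐ[k] Ω := IsSepClosed.lift
      have e : Spec.map φ = Spec.map (CommRingCat.ofHom σ.toRingHom) ≫ f :=
        (congrArg Spec.map (CommRingCat.hom_ext (RingHom.ext fun a => (σ.commutes a).symm) :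
          φ = CommRingCat.ofHom (algebraMap k Ks) ≫ CommRingCat.ofHom σ.toRingHom)).trans (Spec.map_comp _ _)
      rw [e]
      refine fun a b hab => (theta_bijective f (Spec.map (CommRingCat.ofHom σ.toRingHom)) F).1 ?_
      exact congrArg (pushStalkMap f (Spec.map (CommRingCat.ofHom σ.toRingHom)) ((EtCoh.pull f).obj F)) hab
    let S : ShortComplex (EtCoh.Ab (Spec (CommRingCat.of k))) := ShortComplex.mk u (cokernel.π u) (cokernel.condition u)
    have hS : S.ShortExact := { exact := ShortComplex.exact_cokernel u }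
    have hP : EtCoh.IsTorsion S.X₂ := isTorsion_push f (Cons51.isTorsion_pull f hF)
    have := preservesFiniteLimits_pull f
    have hz : ∀ i, 0 < i → Subsingleton (EtCoh.H (Spec (CommRingCat.of k)) S.X₂ i) := fun i hi => by
      refine subsingleton_of_forall_eq 0 fun y => ?_
      have hb : Function.Bijective (EtLim.HofPush f ((EtCoh.pull f).obj F) i) :=
        EtCore45.adjTransfer_bijective (EtCoh.pullPushAdj f) (EtCore.pullConst f ℤ).inv i _ (isZero_Rpush f _)
      exact hb.1 ((H_sepClosed_eq_zero hi _).trans (map_zero _).symm)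
    exact eq_zero_of_les_shift hS (hz (n + j + 1) (Nat.succ_pos _)) (hz (n + j) (by omega))
      (fun y hy => ih _ (Cons51.isTorsion_of_epi (cokernel.π u) hP) y ⟨m, hy⟩) x hm

theorem nsmul_id_const_zmod (X : Scheme.{u}) (p : ℕ) : p • 𝟙 (EtCoh.const X (ZMod p)) = 0 := by
  let A := AddCommGrpCat.of (ULift.{u + 1} (ZMod p))
  have h : p • 𝟙 A = 0 := by
    refine ConcreteCategory.hom_ext _ _ fun a => ULift.ext _ _ ?_
    show p • a.down = 0
    rw [nsmul_eq_mul, ZMod.natCast_self, zero_mul]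
  have : (constantSheaf X.smallEtaleTopology AddCommGrpCat.{u + 1}).Additive := by
    have : (EtCore.gsec X).Additive := ⟨fun {_ _ _ _} => rfl⟩
    exact (EtCore.constAdj X).left_adjoint_additive
  show p • 𝟙 ((constantSheaf X.smallEtaleTopology AddCommGrpCat.{u + 1}).obj A) = 0
  rw [← CategoryTheory.Functor.map_id, ← Functor.map_nsmul, h, Functor.map_zero]

theorem isTorsion_const_zmod (X : Scheme.{u}) (p : ℕ) [Fact p.Prime] : EtCoh.IsTorsion (EtCoh.const X (ZMod p)) :=
  isTorsion_of_nsmul_id (Nat.pos_of_ne_zero (NeZero.ne p)) (nsmul_id_const_zmod X p)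

/-- Pro-`p` criterion. -/
theorem cohDim_le_iff_of_prop (k : Type u) [Field k] (p : ℕ) [hp : Fact p.Prime]
    (hpro : ∀ (K : Type u) [Field K] [Algebra k K], FiniteDimensional k K → Algebra.IsSeparable k K →
      ∃ m : ℕ, Module.finrank k K = p ^ m) (n : ℕ) :
    (∀ (F : EtCoh.Ab (Spec (CommRingCat.of k))), EtCoh.IsTorsion F → ∀ q : ℕ, n < q →
        ∀ x : EtCoh.H (Spec (CommRingCat.of k)) F q, (∃ m : ℕ, p ^ m • x = 0) → x = 0) ↔
    Subsingleton (EtCoh.H (Spec (CommRingCat.of k)) (EtCoh.const (Spec (CommRingCat.of k)) (ZMod p)) (n + 1)) := by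
  let X := Spec (CommRingCat.of k)
  constructor
  · intro h
    refine subsingleton_of_forall_eq 0 fun x => h _ (isTorsion_const_zmod X p) (n + 1) n.lt_succ_self x ⟨1, ?_⟩
    rw [pow_one]
    exact nsmul_eq_zero_of_id (nsmul_id_const_zmod X p) x
  · intro h F hF q hq x hx
    obtain ⟨j, rfl⟩ := Nat.exists_eq_add_of_le (Nat.succ_le_of_lt hq)
    let C : ∀ (K : Type u) [Field K], Prop := fun K _ =>
      (∀ (E : Type u) [Field E] [Algebra K E], FiniteDimensional K E → Algebra.IsSeparable K E →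
        ∃ m : ℕ, Module.finrank K E = p ^ m) ∧
      Subsingleton (EtCoh.H (Spec (CommRingCat.of K)) (EtCoh.const (Spec (CommRingCat.of K)) (ZMod p)) (n + 1))
    refine eq_zero_higher n.succ_pos (fun G hG y ⟨m, hy⟩ => eq_zero_of_isTorsion (p := p) C
      (fun K _ hK y => @Subsingleton.elim _ hK.2 y 0) (fun K _ hK E _ _ _ _ hd h1 => ?_) n.succ_pos k ⟨hpro, h⟩ G hG y hy) j F hF x hx
    obtain ⟨e, he⟩ := hK.1 E inferInstance inferInstance
    rcases e with _ | e
    · exact absurd (by simpa using he) h1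
    · exact absurd (he ▸ dvd_pow_self p (Nat.succ_ne_zero e)) hd

/-- Characteristic `p` fields have `p`-cohomological dimension at most one. -/
theorem cohDim_le_one_of_charP (k : Type u) [Field k] (p : ℕ) [hp : Fact p.Prime] [hk : CharP k p]
    (F : EtCoh.Ab (Spec (CommRingCat.of k))) (hF : EtCoh.IsTorsion F) (q : ℕ) (hq : 2 ≤ q)
    (x : EtCoh.H (Spec (CommRingCat.of k)) F q) {m : ℕ} (hx : p ^ m • x = 0) : x = 0 := by
  refine eq_zero_of_isTorsion (p := p) (fun K _ => CharP K p) (fun K _ hK y => ?_)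
    (fun K _ hK E _ _ _ _ _ _ => charP_of_injective_algebraMap (algebraMap K E).injective p) (by omega) k hk F hF x hx
  obtain ⟨j, rfl⟩ := Nat.exists_eq_add_of_le hq
  let X := Spec (CommRingCat.of K)
  have hp0 : (p : Γ(X, ⊤)) = 0 := by
    rw [← map_natCast (Scheme.ΓSpecIso (CommRingCat.of K)).inv.hom p]
    exact (congrArg _ (CharP.cast_eq_zero K p)).trans (map_zero _)
  revert y
  rw [show 2 + j = (j + 1) + 1 by omega]
  intro y
  exact eq_zero_of_les₁ (Unr55.EtAS.shortExact_seq hp0) (Groth.Agent.S0109.result X (j + 1 + 1) (by omega))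
    (Groth.Agent.S0109.result X (j + 1) (by omega)) y

end Groth.Agent.GalCoh84
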