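import Groth.Agent.GalCoh84.CyclicNorm
import Groth.Agent.GalCoh84.CdCrit
import Groth.Agent.An92.FrobCorr.ConstPull
import Groth.Agent.Unr55.Et.Kummer
import Groth.Agent.EtCore45.MuRoot
import Mathlib.GroupTheory.IndexNormal
import Mathlib.GroupTheory.SpecificGroups.Cyclic
import Mathlib.NumberTheory.Cyclotomic.Gal

/-!
# Norm criterion for cohomological dimension at most one
-/

set_option autoImplicit false
set_option backward.isDefEq.respectTransparency.types false
universe u

open CategoryTheory CategoryTheory.Limits CategoryTheory.Abelian AlgebraicGeometry Opposite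
open Groth.Agent

namespace Groth.Agent.GalCoh84

/-- Pullback of the multiplicative group to a finite separable extension. -/
noncomputable def pullGmIso {E M : Type u} [Field E] [Field M] [Algebra E M]
    [Etale (Spec.map (CommRingCat.ofHom (algebraMap E M)))] :
    (EtCoh.pull (Spec.map (CommRingCat.ofHom (algebraMap E M)))).obj (EtCoh.Gm (Spec (CommRingCat.of E))) ≅
      EtCoh.Gm (Spec (CommRingCat.of M)) :=
  (EtCore45.pullRestrIso (Spec.map (CommRingCat.ofHom (algebraMap E M)))).app _ ≪≫ gmRestrIso _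

theorem Hpull_tower {W U X : Scheme.{u}} (f : W ⟶ U) (j : U ⟶ X) (h : W ⟶ X) (w : f ≫ j = h)
    [PreservesFiniteLimits (EtCoh.pull f)] [PreservesFiniteLimits (EtCoh.pull j)]
    [PreservesFiniteLimits (EtCoh.pull h)] {F : EtCoh.Ab X} {n : ℕ} {e : EtCoh.H X F n}
    (he : EtCore.Hpull h F n e = 0) : EtCore.Hpull f _ n (EtCore.Hpull j F n e) = 0 := by
  have : Fact FinFr.PullExact.{u} := ⟨fun _ _ g => Unr55.EtSh.preservesFiniteLimits_pull g⟩
  have h1 : EtCore.HpullVia f j h w F n (EtCore.Hpull j F n e) = 0 :=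
    (An92.FrobCorr.hpull_comp f j h w F n e).trans he
  let E := ((EtCore.pullComp f j).symm ≪≫ EtCore.pullCongr w).app F
  have h2 : (EtCore.Hpull f _ n (EtCore.Hpull j F n e)).comp (Ext.mk₀ E.hom) (add_zero n) = 0 := h1
  have h3 := congrArg (fun z => z.comp (Ext.mk₀ E.inv) (add_zero n)) h2
  simpa only [Ext.comp_assoc_of_second_deg_zero, Ext.mk₀_comp_mk₀, Iso.hom_inv_id, Ext.comp_mk₀_id,
    Ext.zero_comp] using h3

/-- A class killed by an extension is killed by any larger extension. -/
theorem Hpull_eq_zero_of_algHom {E : Type u} [Field E] {L N : Type u} [Field L] [Field N] [Algebra E L]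
    [Algebra E N] [FiniteDimensional E L] [Algebra.IsSeparable E L] [FiniteDimensional E N]
    [Algebra.IsSeparable E N] [PreservesFiniteLimits (EtCoh.pull (specObj E L).hom)]
    [PreservesFiniteLimits (EtCoh.pull (specObj E N).hom)] (σ : L →ₐ[E] N)
    {F : EtCoh.Ab (Spec (CommRingCat.of E))} {n : ℕ} (α : EtCoh.H (Spec (CommRingCat.of E)) F (n + 1))
    (hα : EtCore.Hpull (specObj E L).hom F (n + 1) α = 0) : EtCore.Hpull (specObj E N).hom F (n + 1) α = 0 := by
  have h1 : 1 • EtCore.Hpull (specObj E N).hom F (n + 1) α = 0 :=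
    nsmul_Hpull_eq_zero_of_transfer (specObj E L) (specObj E N) 1
      (fun G => (G.obj.map (specMap σ).op).hom)
      (fun G G' φ s => NatTrans.naturality_apply φ.hom (specMap σ).op s)
      (fun G x => by
        rw [one_smul]
        refine (ConcreteCategory.congr_hom (G.obj.map_comp _ _) x).symm.trans ?_
        exact congrArg (fun k => G.obj.map k x) (congrArg Quiver.Hom.op ((EtCore.topIsTerminal _).hom_ext
          (specMap σ ≫ (EtCore.topIsTerminal _).from _) ((EtCore.topIsTerminal _).from _)))) n F α hα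
  rwa [one_smul] at h1

variable {p : ℕ} [hp : Fact p.Prime] (C : ∀ (E : Type u) [Field E], Prop)
  (hC : ∀ (E : Type u) [Field E], C E → ∀ (M : Type u) [Field M] [Algebra E M] [FiniteDimensional E M]
    [Algebra.IsSeparable E M], C M)
  (hN : ∀ (E : Type u) [Field E], C E → ∀ (L : Type u) [Field L] [Algebra E L] [FiniteDimensional E L]
    [IsGalois E L], Module.finrank E L = p → ∀ x : E, x ≠ 0 → ∃ y : L, Algebra.norm E y = x)

include hC hN

/-- Brauer classes split by a Galois extension of `p`-power degree vanish. -/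
theorem eq_zero_of_pGroup :
    ∀ (m : ℕ) (E : Type u) [Field E], C E → ∀ (N : Type u) [Field N] [Algebra E N] [FiniteDimensional E N]
      [IsGalois E N], Module.finrank E N = p ^ m →
      ∀ [PreservesFiniteLimits (EtCoh.pull (Spec.map (CommRingCat.ofHom (algebraMap E N))))]
        (x : EtCoh.H (Spec (CommRingCat.of E)) (EtCoh.Gm (Spec (CommRingCat.of E))) 2),
        EtCore.Hpull (Spec.map (CommRingCat.ofHom (algebraMap E N))) (EtCoh.Gm (Spec (CommRingCat.of E))) 2 x = 0 →
        x = 0 := by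
  intro m
  induction m with
  | zero =>
    intro E _ _ N _ _ _ _ hd _ x hx
    have h := finrank_nsmul_eq_zero N (Nat.succ_pos 1) x hx
    rwa [hd, pow_zero, one_smul] at h
  | succ m ih =>
    intro E _ hE N _ _ _ _ hd _ x hx
    have hcard : Nat.card (N ≃ₐ[E] N) = p ^ (m + 1) := by rw [IsGalois.card_aut_eq_finrank, hd]
    obtain ⟨H, hH⟩ := Sylow.exists_subgroup_card_pow_prime p (G := N ≃ₐ[E] N) (n := m)
      (hcard ▸ pow_dvd_pow p m.le_succ)
    have hidx : H.index = p := by
      have h1 := H.card_mul_index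
      rw [hH, hcard, pow_succ] at h1
      exact Nat.eq_of_mul_eq_mul_left (pow_pos hp.out.pos m) h1
    have : H.Normal := Subgroup.normal_of_index_eq_minFac_card
      (by rw [hidx, hcard, Nat.Prime.pow_minFac hp.out m.succ_ne_zero])
    let M := IntermediateField.fixedField H
    have : IsGalois E M := inferInstance
    have hMN : Module.finrank M N = p ^ m := (IntermediateField.finrank_fixedField_eq_card H).trans hH
    have hEM : Module.finrank E M = p := by
      have h1 := Module.finrank_mul_finrank E M N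
      rw [hMN, hd, pow_succ'] at h1
      exact Nat.eq_of_mul_eq_mul_right (pow_pos hp.out.pos m) h1
    have : IsCyclic (M ≃ₐ[E] M) := isCyclic_of_prime_card (p := p)
      ((IsGalois.card_aut_eq_finrank E M).trans hEM)
    let j := Spec.map (CommRingCat.ofHom (algebraMap E M))
    let f := Spec.map (CommRingCat.ofHom (algebraMap M N))
    have w : f ≫ j = Spec.map (CommRingCat.ofHom (algebraMap E N)) :=
      (Spec.map_comp _ _).symm.trans (congrArg Spec.map (CommRingCat.hom_ext (IsScalarTower.algebraMap_eq E M N).symm))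
    have := Unr55.EtSh.preservesFiniteLimits_pull f
    have := Unr55.EtSh.preservesFiniteLimits_pull j
    have : Etale j := etale_specMap M
    let y := (EtCore.Hpull j (EtCoh.Gm (Spec (CommRingCat.of E))) 2 x).comp (Ext.mk₀ pullGmIso.hom) (add_zero 2)
    have hy : y = 0 := by
      refine ih M (hC E hE M) N hMN y ?_
      exact (Hpull_naturality f pullGmIso.hom 2 _).trans
        (comp_eq_zero_of_eq_zero _ _ (Hpull_tower f j _ w hx))
    refine eq_zero_of_norm_surjective M (hN E hE M hEM) x ?_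
    have h3 := congrArg (fun z => z.comp (Ext.mk₀ (pullGmIso (E := E) (M := M)).inv) (add_zero 2)) hy
    simpa only [y, Ext.comp_assoc_of_second_deg_zero, Ext.mk₀_comp_mk₀, Iso.hom_inv_id, Ext.comp_mk₀_id,
      Ext.zero_comp] using h3

/-- The `p`-primary part of the Brauer group vanishes. -/
theorem H2_Gm_eq_zero_of_norm (E : Type u) [Field E] (hE : C E)
    (x : EtCoh.H (Spec (CommRingCat.of E)) (EtCoh.Gm (Spec (CommRingCat.of E))) 2) {a : ℕ} (hx : p ^ a • x = 0) :
    x = 0 := by
  classical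
  obtain ⟨L, _, _, _, _, _, hL⟩ := exists_killing_aux (K := E) 1 _ x
  let Ω := AlgebraicClosure E
  let N := IntermediateField.normalClosure E L Ω
  have hsep : Algebra.IsSeparable E N := by
    have hle : (N : IntermediateField E Ω) ≤ separableClosure E Ω := by
      refine iSup_le fun f => ?_
      rintro _ ⟨x, rfl⟩
      exact mem_separableClosure_iff.2 ((Algebra.IsSeparable.isSeparable E x).map f f.injective)
    exact Algebra.IsSeparable.of_algHom E _ (IntermediateField.inclusion hle)
  have : FiniteDimensional E N := normalClosure.is_finiteDimensional E L Ω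
  have : Normal E N := normalClosure.normal E L Ω
  have : IsGalois E N := ⟨⟩
  obtain ⟨σ⟩ : Nonempty (L →ₐ[E] N) := ⟨(normalClosure.algHomEquiv E L Ω).symm (IsAlgClosed.lift)⟩
  have hpN := Unr55.EtSh.preservesFiniteLimits_pull (specObj E N).hom
  have hxN := Hpull_eq_zero_of_algHom σ x hL
  obtain ⟨P⟩ : Nonempty (Sylow p (N ≃ₐ[E] N)) := inferInstance
  let M := IntermediateField.fixedField (P : Subgroup (N ≃ₐ[E] N))
  have : Algebra.IsSeparable E M := Algebra.isSeparable_tower_bot_of_isSeparable E M N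
  have hMN : Module.finrank M N = Nat.card (P : Subgroup (N ≃ₐ[E] N)) := IntermediateField.finrank_fixedField_eq_card _
  have hEM : Module.finrank E M = (P : Subgroup (N ≃ₐ[E] N)).index := by
    have h1 := Module.finrank_mul_finrank E M N
    rw [hMN, ← IsGalois.card_aut_eq_finrank E N, ← (P : Subgroup (N ≃ₐ[E] N)).index_mul_card] at h1
    exact Nat.eq_of_mul_eq_mul_right Nat.card_pos h1
  obtain ⟨b, hb⟩ := P.isPGroup'.exists_card_eq
  let j := Spec.map (CommRingCat.ofHom (algebraMap E M))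
  let f := Spec.map (CommRingCat.ofHom (algebraMap M N))
  have w : f ≫ j = Spec.map (CommRingCat.ofHom (algebraMap E N)) :=
    (Spec.map_comp _ _).symm.trans (congrArg Spec.map (CommRingCat.hom_ext (IsScalarTower.algebraMap_eq E M N).symm))
  have := Unr55.EtSh.preservesFiniteLimits_pull f
  have := Unr55.EtSh.preservesFiniteLimits_pull j
  have : PreservesFiniteLimits (EtCoh.pull (Spec.map (CommRingCat.ofHom (algebraMap E N)))) := hpN
  have : Etale j := etale_specMap M
  let y := (EtCore.Hpull j (EtCoh.Gm (Spec (CommRingCat.of E))) 2 x).comp (Ext.mk₀ pullGmIso.hom) (add_zero 2)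
  have hy : y = 0 := eq_zero_of_pGroup C hC hN b M (hC E hE M) N (hMN.trans hb) y
    ((Hpull_naturality f pullGmIso.hom 2 _).trans (comp_eq_zero_of_eq_zero _ _ (Hpull_tower f j _ w hxN)))
  have h4 : EtCore.Hpull j (EtCoh.Gm (Spec (CommRingCat.of E))) 2 x = 0 := by
    have h3 := congrArg (fun z => z.comp (Ext.mk₀ (pullGmIso (E := E) (M := M)).inv) (add_zero 2)) hy
    simpa only [y, Ext.comp_assoc_of_second_deg_zero, Ext.mk₀_comp_mk₀, Iso.hom_inv_id, Ext.comp_mk₀_id,
      Ext.zero_comp] using h3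
  exact eq_zero_of_coprime hp.out (hEM ▸ P.not_dvd_index) (finrank_nsmul_eq_zero M (Nat.succ_pos 1) x h4) hx

omit hC hN

theorem eq_zero_of_comp_mk₀ {A : Type*} [Category A] [Abelian A] [HasExt.{u + 1} A] {S : ShortComplex A}
    (hS : S.ShortExact) {M : A} {n m : ℕ} (h : n + 1 = m) (h₃ : ∀ b : Ext.{u + 1} M S.X₃ n, b = 0)
    (x : Ext.{u + 1} M S.X₁ m) (hx : x.comp (Ext.mk₀ S.f) (add_zero m) = 0) : x = 0 := by
  obtain ⟨b, rfl⟩ := Ext.covariant_sequence_exact₁ _ hS x hx h
  rw [h₃ b, Ext.zero_comp]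

/-- Kummer theory turns vanishing of the Brauer group torsion into vanishing of `H²(μ)`. -/
theorem H2_mu_eq_zero {E : Type u} [Field E] {p : ℕ} (hpE : (p : E) ≠ 0)
    (h : ∀ z : EtCoh.H (Spec (CommRingCat.of E)) (EtCoh.Gm (Spec (CommRingCat.of E))) 2, p • z = 0 → z = 0)
    (x : EtCoh.H (Spec (CommRingCat.of E)) (EtCoh.mu (Spec (CommRingCat.of E)) p) 2) : x = 0 := by
  have hu : IsUnit (p : Γ(Spec (CommRingCat.of E), ⊤)) := by
    rw [← map_natCast (Scheme.ΓSpecIso (CommRingCat.of E)).inv.hom p]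
    exact (isUnit_iff_ne_zero.2 hpE).map _
  have hS := EtSix.kummerShortExact (Unr55.EtSh.epi_powMap _ p hu)
  refine eq_zero_of_comp_mk₀ hS (rfl : 1 + 1 = 2) (fun b => H1_Gm_eq_zero b) x (h _ ?_)
  have h2 : (x.comp (Ext.mk₀ (EtCoh.muι _ p)) (add_zero 2)).comp (Ext.mk₀ (EtCoh.powMap _ p)) (add_zero 2) =
      (0 : EtCoh.H (Spec (CommRingCat.of E)) (EtCoh.Gm (Spec (CommRingCat.of E))) 2) := by
    rw [Ext.comp_assoc_of_second_deg_zero, Ext.mk₀_comp_mk₀,
      show EtCoh.muι (Spec (CommRingCat.of E)) p ≫ EtCoh.powMap _ p = 0 from kernel.condition _,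
      Ext.mk₀_zero, Ext.comp_zero]
  refine Eq.trans ?_ h2
  rw [EtCoh.powMap, mk₀_nsmul]
  exact (congrArg (p • ·) (Ext.comp_mk₀_id _).symm).trans
    (((Ext.bilinearComp _ _ _ 2 0 2 (add_zero 2)) _).map_nsmul _ _).symm

/-- Vanishing of torsion cohomology in degree two kills the `p`-torsion of the Brauer group. -/
theorem eq_zero_of_kummer {X : Scheme.{u}} {p : ℕ} [Fact p.Prime] (hm : Epi (EtCoh.powMap X p))
    (h : ∀ (F : EtCoh.Ab X), EtCoh.IsTorsion F → ∀ y : EtCoh.H X F 2, p • y = 0 → y = 0)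
    (z : EtCoh.H X (EtCoh.Gm X) 2) (hz : p • z = 0) : z = 0 := by
  have hS := EtSix.kummerShortExact hm
  have hz' : z.comp (Ext.mk₀ (EtSix.kummerSC X p).g) (add_zero 2) = 0 := by
    refine Eq.trans ?_ hz
    show z.comp (Ext.mk₀ (p • 𝟙 (EtCoh.Gm X))) (add_zero 2) = _
    rw [mk₀_nsmul]
    exact (((Ext.bilinearComp _ _ _ 2 0 2 (add_zero 2)) z).map_nsmul _ _).trans
      (congrArg (p • ·) (Ext.comp_mk₀_id z))
  obtain ⟨y, rfl⟩ := Ext.covariant_sequence_exact₂ _ hS z hz'
  have hμ : p • 𝟙 (EtCoh.mu X p) = 0 := by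
    show p • 𝟙 (kernel (EtCoh.powMap X p)) = 0
    rw [← cancel_mono (kernel.ι (EtCoh.powMap X p)), Preadditive.nsmul_comp, Category.id_comp, zero_comp]
    have h1 := kernel.condition (EtCoh.powMap X p)
    rw [EtCoh.powMap, Preadditive.comp_nsmul, Category.comp_id] at h1
    exact h1
  exact comp_eq_zero_of_eq_zero _ _ (h _ (isTorsion_of_nsmul_id (Nat.Prime.pos Fact.out) hμ) y (nsmul_eq_zero_of_id hμ y))

theorem H2_const_eq_zero_of_root {E : Type u} [Field E] {p : ℕ} [Fact p.Prime] (hpE : (p : E) ≠ 0) {ζ : E}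
    (hζ : IsPrimitiveRoot ζ p)
    (h : ∀ z : EtCoh.H (Spec (CommRingCat.of E)) (EtCoh.Gm (Spec (CommRingCat.of E))) 2, p • z = 0 → z = 0)
    (x : EtCoh.H (Spec (CommRingCat.of E)) (EtCoh.const (Spec (CommRingCat.of E)) (ZMod p)) 2) : x = 0 := by
  have hu : IsUnit (p : Γ(Spec (CommRingCat.of E), ⊤)) := by
    rw [← map_natCast (Scheme.ΓSpecIso (CommRingCat.of E)).inv.hom p]
    exact (isUnit_iff_ne_zero.2 hpE).map _
  obtain ⟨e⟩ := EtCore45.mu_iso_const_of_cyclotomic_root (Spec (CommRingCat.of E)) p (Nat.Prime.one_le Fact.out) hu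
    ((Scheme.ΓSpecIso (CommRingCat.of E)).inv.hom ζ) (by
      have hr := hζ.isRoot_cyclotomic (Nat.Prime.pos Fact.out)
      rw [Polynomial.IsRoot.def, ← Polynomial.map_cyclotomic p (Int.castRingHom E), Polynomial.eval_map] at hr
      have h1 := congrArg (Scheme.ΓSpecIso (CommRingCat.of E)).inv.hom hr
      rw [Polynomial.hom_eval₂, map_zero] at h1
      rw [Polynomial.aeval_def]
      exact (congrArg (fun φ => Polynomial.eval₂ φ _ _) (RingHom.ext_int _ _)).trans h1)
  exact eq_zero_of_iso e.symm (H2_mu_eq_zero hpE h) x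

include hC hN

/-- Surjectivity of norms of cyclic degree `p` extensions bounds the `p`-cohomological dimension by one. -/
theorem cohDim_le_one_of_norm (k : Type u) [Field k] (hk : C k) (hpk : (p : k) ≠ 0)
    (F : EtCoh.Ab (Spec (CommRingCat.of k))) (hF : EtCoh.IsTorsion F) (q : ℕ) (hq : 1 < q)
    (x : EtCoh.H (Spec (CommRingCat.of k)) F q) (hx : ∃ m : ℕ, p ^ m • x = 0) : x = 0 := by
  classical
  obtain ⟨j, rfl⟩ := Nat.exists_eq_add_of_le (show 2 ≤ q from hq)
  refine eq_zero_higher (p := p) (by norm_num) (fun G hG y hy => ?_) j F hF x hx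
  have : NeZero (p : k) := ⟨hpk⟩
  let K := CyclotomicField p k
  have : IsGalois k K := IsCyclotomicExtension.isGalois {p} k K
  have : FiniteDimensional k K := IsCyclotomicExtension.finiteDimensional {p} k K
  let ζ := IsCyclotomicExtension.zeta p k K
  have hζ : IsPrimitiveRoot ζ p := IsCyclotomicExtension.zeta_spec p k K
  have hdeg : ¬ p ∣ Module.finrank k K := by
    rw [← IsGalois.card_aut_eq_finrank]
    intro h
    have h1 : Nat.card (K ≃ₐ[k] K) ≤ p - 1 := by
      refine (Nat.card_le_card_of_injective _ (IsPrimitiveRoot.autToPow_injective (K := k) hζ)).trans ?_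
      rw [Nat.card_eq_fintype_card, ZMod.card_units]
    have h2 := Nat.le_of_dvd Nat.card_pos h
    have := hp.out.one_le
    omega
  let C' : ∀ (E : Type u) [Field E], Prop := fun E _ => C E ∧ (p : E) ≠ 0 ∧ ∃ ζ : E, IsPrimitiveRoot ζ p
  refine cohDim_p_descends K hp.out hdeg (by norm_num) (fun G' hG' z ⟨m, hz⟩ => ?_) hG y hy.choose_spec
  refine eq_zero_of_isTorsion C' (fun E _ hE w => ?_) (fun E _ hE M _ _ _ _ _ _ => ?_) (by norm_num) K
    ⟨hC k hk K, fun h => hpk ((algebraMap k K).injective (by rw [map_natCast, h, map_zero])), ζ, hζ⟩ G' hG' z hz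
  · obtain ⟨ξ, hξ⟩ := hE.2.2
    exact H2_const_eq_zero_of_root hE.2.1 hξ
      (fun v hv => H2_Gm_eq_zero_of_norm C hC hN E hE.1 v (a := 1) (by rwa [pow_one])) w
  · obtain ⟨ξ, hξ⟩ := hE.2.2
    exact ⟨hC E hE.1 M, fun h => hE.2.1 ((algebraMap E M).injective (by rw [map_natCast, h, map_zero])),
      algebraMap E M ξ, hξ.map_of_injective (algebraMap E M).injective⟩

end Groth.Agent.GalCoh84
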