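import Groth.Agent.GalCoh84.Cohom
import Groth.Agent.EtCore45.PushEpi
import Groth.Agent.EtCore45.ExtAdjoint
import Groth.Agent.Unr55.Et.FinitePushExact
import Groth.Prelude.Def_EtLim
import Mathlib.FieldTheory.Separable

/-!
# Direct image along integral morphisms and cohomological dimension
-/

set_option autoImplicit false
set_option backward.isDefEq.respectTransparency.types false
universe u

open CategoryTheory CategoryTheory.Limits CategoryTheory.Abelian AlgebraicGeometry Opposite
open Groth.Agent Groth.Agent.Unr55.EtSh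

namespace Groth.Agent.GalCoh84

variable {X Y : Scheme.{u}} (f : X ⟶ Y) [IsIntegralHom f]

theorem preservesFiniteColimits_push : PreservesFiniteColimits (EtCoh.push f) := by
  have := (EtCoh.pullPushAdj f).rightAdjoint_preservesLimits
  refine (Functor.preservesFiniteColimits_iff_forall_exact_map_and_epi (EtCoh.push f)).2 fun S hS => ?_
  have := hS.epi_g
  exact ⟨((Functor.preservesFiniteLimits_iff_forall_exact_map_and_mono (EtCoh.push f)).1
    inferInstance S hS).1, EtCore45.push_map_epi f S.g⟩

theorem isZero_Rpush (F : EtCoh.Ab X) (q : ℕ) (hq : 0 < q) : IsZero ((EtCoh.Rpush f q).obj F) := by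
  obtain ⟨q, rfl⟩ := Nat.exists_eq_add_one.2 hq
  have := (EtCoh.pullPushAdj f).rightAdjoint_preservesLimits
  have : PreservesFiniteColimits (EtCoh.push f) := preservesFiniteColimits_push f
  let I := injectiveResolution F
  refine IsZero.of_iso ?_ (I.isoRightDerivedObj (EtCoh.push f) (q + 1))
  refine (HomologicalComplex.exactAt_iff_isZero_homology _ _).1 ?_
  exact (I.cocomplex_exactAt_succ q).map (EtCoh.push f)

/-- Direct image along an integral morphism preserves torsion sheaves. -/
theorem isTorsion_push {F : EtCoh.Ab X} (hF : EtCoh.IsTorsion F) : EtCoh.IsTorsion ((EtCoh.push f).obj F) := by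
  intro U s u
  obtain ⟨W, hW, hu, -⟩ := exists_isAffineOpen_mem_and_subset (U := ⊤) (TopologicalSpace.Opens.mem_top u)
  let V := openSub U W
  let g := openSubι U W
  refine ⟨V, g, ⟨⟨u, hu⟩, rfl⟩, ?_⟩
  let P := (EtCoh.bc f).obj V
  let t : EtCoh.sect F P := ((EtCoh.push f).obj F).obj.map g.op s
  show IsOfFinAddOrder t
  have : IsAffine ((𝟭 Scheme).obj V.left) := hW
  have hP : CompactSpace P.left := by
    have : IsIntegralHom (pullback.fst V.hom f) := MorphismProperty.pullback_fst _ _ ‹IsIntegralHom f›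
    have : IsAffine (pullback V.hom f) := isAffine_of_isAffineHom (pullback.fst V.hom f)
    exact (inferInstance : CompactSpace ↥(pullback V.hom f))
  choose Z φ hz h using hF P t
  choose z hz using hz
  have hopen : ∀ p, IsOpen (Set.range (φ p).left) := fun p => by
    have := EtCore45.etale_left (φ p)
    exact (φ p).left.isOpenMap.isOpen_range
  obtain ⟨S, hS⟩ := isCompact_univ.elim_finite_subcover (fun p => Set.range (φ p).left) hopen
    (fun p _ => Set.mem_iUnion.2 ⟨p, z p, hz p⟩)
  refine isOfFinAddOrder_iff_nsmul_eq_zero.2 ⟨∏ p ∈ S, addOrderOf (F.obj.map (φ p).op t),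
    Finset.prod_pos fun p _ => (h p).addOrderOf_pos, ?_⟩
  refine sect_eq_zero_of_local F _ fun x => ?_
  obtain ⟨p, hp, v, hv⟩ := Set.mem_iUnion₂.1 (hS (Set.mem_univ x))
  refine ⟨Z p, φ p, v, hv, ?_⟩
  rw [map_nsmul]
  exact addOrderOf_dvd_iff_nsmul_eq_zero.1 (Finset.dvd_prod_of_mem _ hp)

/-- Cohomological dimension does not grow in separable algebraic extensions. -/
theorem cohDim_p_le {k : Type u} [Field k] (K : Type u) [Field K] [Algebra k K] [Algebra.IsAlgebraic k K]
    {p q : ℕ}
    (hcd : ∀ (F : EtCoh.Ab (Spec (CommRingCat.of k))), EtCoh.IsTorsion F →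
        ∀ x : EtCoh.H (Spec (CommRingCat.of k)) F q, (∃ m : ℕ, p ^ m • x = 0) → x = 0)
    {F : EtCoh.Ab (Spec (CommRingCat.of K))} (hF : EtCoh.IsTorsion F)
    (x : EtCoh.H (Spec (CommRingCat.of K)) F q) {m : ℕ} (hx : p ^ m • x = 0) : x = 0 := by
  let f := Spec.map (CommRingCat.ofHom (algebraMap k K))
  have : IsIntegralHom f := IsIntegralHom.SpecMap_iff.2
    (algebraMap_isIntegral_iff.2 inferInstance)
  have := preservesFiniteLimits_pull f
  have hb : Function.Bijective (EtLim.HofPush f F q) :=
    EtCore45.adjTransfer_bijective (EtCoh.pullPushAdj f) (EtCore.pullConst f ℤ).inv q F (isZero_Rpush f F)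
  obtain ⟨y, rfl⟩ := hb.2 x
  rw [hcd _ (isTorsion_push f hF) y ⟨m, hb.1 ((map_nsmul _ _ _).trans (hx.trans (map_zero _).symm))⟩, map_zero]

end Groth.Agent.GalCoh84
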