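import Groth.Agent.GalCoh84.CdLe
import Groth.Agent.GalCoh84.PushInt
import Groth.Agent.Cons51.TorsionCoh

/-!
# Torsion coefficients
-/

set_option autoImplicit false
set_option backward.isDefEq.respectTransparency.types false
universe u

open CategoryTheory CategoryTheory.Limits CategoryTheory.Abelian AlgebraicGeometry Opposite
open Groth.Agent Groth.Agent.Unr55.EtSh

namespace Groth.Agent.GalCoh84

theorem nsmul_id_eq_zero_of_killedBy {X : Scheme.{u}} {G : EtCoh.Ab X} {n : ℕ} (h : EtCoh.KilledBy n G) :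
    n • 𝟙 G = 0 :=
  ObjectProperty.hom_ext _ (NatTrans.ext (funext fun U => ConcreteCategory.hom_ext _ _ fun s => h U.unop s))

theorem stalk_map_surjective {X : Scheme.{u}} {A B : EtCoh.Ab X} (e : A ⟶ B) [Epi e]
    {Ω : Type u} [Field Ω] [IsSepClosed Ω] (η : Spec (CommRingCat.of Ω) ⟶ X) :
    Function.Surjective ((EtCoh.stalk η).map e) := by
  have : PreservesColimitsOfSize.{0, 0} (EtCoh.stalk η) :=
    (Scheme.pointSmallEtale η).skyscraperSheafAdjunction.leftAdjoint_preservesColimits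
  exact (AddCommGrpCat.epi_iff_surjective _).1 inferInstance

universe w v'

theorem eq_zero_of_image {A : Type*} [Category.{v'} A] [Abelian A] [HasExt.{w} A] {M D : A} {q : ℕ} {a b : ℕ}
    (hab : (a * b) • 𝟙 D = 0) (hvan : a • 𝟙 (Abelian.image (b • 𝟙 D)) = 0 → ∀ y : Ext.{w} M (Abelian.image (b • 𝟙 D)) q, y = 0)
    (x : Ext.{w} M D q) : b • x = 0 := by
  let μ : D ⟶ D := b • 𝟙 D
  let e := Abelian.factorThruImage μ
  let i := Abelian.image.ι μ
  have hei : e ≫ i = μ := kernel.lift_ι _ _ _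
  have ha : a • 𝟙 (Abelian.image μ) = 0 := by
    rw [← cancel_mono i, zero_comp, ← cancel_epi e, comp_zero, Preadditive.nsmul_comp, Category.id_comp,
      Preadditive.comp_nsmul, hei]
    show a • (b • 𝟙 D) = 0
    rw [smul_smul, hab]
  have h : x.comp (Ext.mk₀ μ) (add_zero q) = 0 := by
    rw [← hei, ← Ext.mk₀_comp_mk₀, ← Ext.comp_assoc_of_third_deg_zero, hvan ha (x.comp (Ext.mk₀ e) (add_zero q)),
      Ext.zero_comp]
  refine Eq.trans ?_ h
  refine Eq.trans ?_ (congrArg (fun z => x.comp z (add_zero q)) (mk₀_nsmul b (𝟙 D))).symm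
  exact (congrArg (b • ·) (Ext.comp_mk₀_id x)).symm.trans
    ((map_nsmul ((Ext.bilinearComp M D D q 0 q (add_zero q)) x) b _).symm)

variable {p : ℕ} [hp : Fact p.Prime] {q : ℕ} (C : ∀ (K : Type u) [Field K], Prop)
  (hC1 : ∀ (K : Type u) [Field K], C K →
    ∀ y : EtCoh.H (Spec (CommRingCat.of K)) (EtCoh.const (Spec (CommRingCat.of K)) (ZMod p)) q, y = 0)
  (hC2 : ∀ (K : Type u) [Field K], C K → ∀ (E : Type u) [Field E] [Algebra K E] [FiniteDimensional K E]
    [Algebra.IsSeparable K E], ¬ p ∣ Module.finrank K E → Module.finrank K E ≠ 1 → C E)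
  (hq : 0 < q)

include hC1 hC2 hq

/-- The `p`-primary torsion in degree `q` vanishes for every torsion sheaf. -/
theorem eq_zero_of_isTorsion (K : Type u) [Field K] (hK : C K) (F : EtCoh.Ab (Spec (CommRingCat.of K)))
    (hF : EtCoh.IsTorsion F) (x : EtCoh.H (Spec (CommRingCat.of K)) F q) {m : ℕ} (hm : p ^ m • x = 0) : x = 0 := by
  let X := Spec (CommRingCat.of K)
  obtain ⟨J, _, _, D, c, hc, ⟨e⟩, hD⟩ := Cons51.exists_isColimit (Cons51.generating_of_isTorsion hF)
  have := Unr55.HColim.preservesColimitsOfShape_HF (X := X) J q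
  have hc' := isColimitOfPreserves (EtCoh.HF X q) hc
  obtain ⟨j, w, hw⟩ := Concrete.isColimit_exists_rep _ hc' ((EtCoh.HF X q).map e.inv x)
  have h0 : ((EtCoh.HF X q).mapCocone c).ι.app j (p ^ m • w) =
      ((EtCoh.HF X q).mapCocone c).ι.app j (0 : (D ⋙ EtCoh.HF X q).obj j) :=
    (map_nsmul ((((EtCoh.HF X q).mapCocone c).ι.app j)).hom (p ^ m) w).trans
      ((congrArg (p ^ m • ·) hw).trans
      ((map_nsmul ((EtCoh.HF X q).map e.inv).hom (p ^ m) x).symm.trans
        ((congrArg ((EtCoh.HF X q).map e.inv) hm).trans ((map_zero _).trans (map_zero _).symm))))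
  obtain ⟨k, f, g, hfg⟩ := (Concrete.isColimit_rep_eq_iff_exists _ hc' _ _).1 h0
  let w' : EtCoh.H X (D.obj k) q := (EtCoh.HF X q).map (D.map f) w
  have hw' : p ^ m • w' = 0 :=
    (map_nsmul ((EtCoh.HF X q).map (D.map f)).hom (p ^ m) w).symm.trans (hfg.trans (map_zero _))
  obtain ⟨N, hN, hk⟩ := Cons51.exists_killedBy (hD k)
  obtain ⟨a, b, hb, rfl⟩ := Nat.exists_eq_pow_mul_and_not_dvd hN.ne' p hp.out.ne_one
  let Ω := SeparableClosure K
  let η : Spec (CommRingCat.of Ω) ⟶ X := Spec.map (CommRingCat.ofHom (algebraMap K Ω))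
  have hfin := Cons51.finite_stalk (hD k) η
  have hbw : b • w' = 0 := eq_zero_of_image (a := p ^ a) (nsmul_id_eq_zero_of_killedBy hk) (fun ha y => by
    have hfin' : Finite ((EtCoh.stalk η).obj (Abelian.image (b • 𝟙 (D.obj k)))) :=
      Finite.of_surjective _ (stalk_map_surjective (Abelian.factorThruImage (b • 𝟙 (D.obj k))) η)
    exact vanishUpTo C hC1 hC2 hq _ K hK _ a ha Ω η hfin' le_rfl y) w'
  have hw0 : w' = 0 := eq_zero_of_coprime hp.out hb hbw hw'
  have hx0 : (EtCoh.HF X q).map e.inv x = 0 := by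
    rw [← hw, ← ((EtCoh.HF X q).mapCocone c).w f, ConcreteCategory.comp_apply]
    exact (congrArg _ hw0).trans (map_zero _)
  have hz : (EtCoh.HF X q).map e.hom ((EtCoh.HF X q).map e.inv x) = x := by
    rw [← ConcreteCategory.comp_apply, ← Functor.map_comp, e.inv_hom_id, CategoryTheory.Functor.map_id]
    rfl
  exact hz.symm.trans ((congrArg _ hx0).trans (map_zero _))

end Groth.Agent.GalCoh84
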