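import Groth.Agent.EtCore45.Galois
import Groth.Agent.EtCore45.EtaleField
import Mathlib.FieldTheory.Normal.Closure
import Mathlib.FieldTheory.PrimitiveElement
import Mathlib.FieldTheory.Galois.Basic

/-!
# The trace of a finite separable extension on sections of étale sheaves
-/

set_option autoImplicit false
set_option backward.isDefEq.respectTransparency.types false
universe u

open CategoryTheory CategoryTheory.Limits AlgebraicGeometry Opposite
open Groth.Agent.Unr55.EtSh

namespace Groth.Agent.GalCoh84

variable {K : Type u} [Field K]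

/-- The structure map of a finite separable extension is étale. -/
theorem etale_specMap (L : Type u) [Field L] [Algebra K L] [FiniteDimensional K L] [Algebra.IsSeparable K L] :
    Etale (Spec.map (CommRingCat.ofHom (algebraMap K L))) := by
  have : Algebra.FormallyEtale K L := (Algebra.FormallyEtale.iff_isSeparable K L).2 inferInstance
  have : Algebra.FinitePresentation K L := Algebra.FinitePresentation.of_finiteType.1 inferInstance
  have : Algebra.Etale K L := {}
  exact HasRingHomProperty.Spec_iff.2 (RingHom.etale_algebraMap.2 this)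

variable {L : Type u} [Field L] [Algebra K L] [FiniteDimensional K L] [Algebra.IsSeparable K L]
  {N : Type u} [Field N] [Algebra K N] [FiniteDimensional K N] [Algebra.IsSeparable K N]

variable (K L) in
/-- A finite separable extension as an object of the small étale site. -/
noncomputable def specObj : (Spec (CommRingCat.of K)).Etale :=
  have := etale_specMap (K := K) L
  Scheme.Etale.mk (Spec.map (CommRingCat.ofHom (algebraMap K L)))

/-- The map of objects attached to an embedding. -/
noncomputable def specMap (σ : L →ₐ[K] N) : specObj K N ⟶ specObj K L :=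
  MorphismProperty.Over.homMk (Spec.map (CommRingCat.ofHom σ.toRingHom))
    ((Spec.map_comp _ _).symm.trans (congrArg Spec.map (CommRingCat.hom_ext (RingHom.ext σ.commutes)))) trivial

theorem specMap_comp {M : Type u} [Field M] [Algebra K M] [FiniteDimensional K M] [Algebra.IsSeparable K M]
    (σ : L →ₐ[K] N) (τ : N →ₐ[K] M) : specMap τ ≫ specMap σ = specMap (τ.comp σ) :=
  MorphismProperty.Over.Hom.ext ((Spec.map_comp _ _).symm)

theorem surjective_specObj : Function.Surjective (specObj K L).hom.base := fun x =>
  ⟨(⊥ : PrimeSpectrum L), Subsingleton.elim (α := PrimeSpectrum K) _ _⟩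

/-- Every point of the self product of a Galois extension comes from an automorphism. -/
theorem prod_jointly_surjective [IsGalois K N] (z : (specObj K N ⨯ specObj K N).left) :
    ∃ (σ : N →ₐ[K] N) (y : (specObj K N).left), (prod.lift (𝟙 _) (specMap σ)).left y = z := by
  let X := Spec (CommRingCat.of K)
  let Y := specObj K N
  let P := Y ⨯ Y
  let κ := P.left.residueField z
  let a : Spec κ ⟶ Spec (CommRingCat.of N) := P.left.fromSpecResidueField z ≫ (prod.fst : P ⟶ Y).left
  let b : Spec κ ⟶ Spec (CommRingCat.of N) := P.left.fromSpecResidueField z ≫ (prod.snd : P ⟶ Y).left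
  have hab : a ≫ Y.hom = b ≫ Y.hom := by
    simp only [a, b, Category.assoc]
    exact congrArg (P.left.fromSpecResidueField z ≫ ·)
      ((Over.w (prod.fst : P ⟶ Y).hom).trans (Over.w (prod.snd : P ⟶ Y).hom).symm)
  obtain ⟨α, hα⟩ := Spec.map_surjective a
  obtain ⟨β, hβ⟩ := Spec.map_surjective b
  let : Algebra K κ := (α.hom.comp (algebraMap K N)).toAlgebra
  have hK : ∀ c : K, β.hom (algebraMap K N c) = algebraMap K κ c := fun c => by
    have : CommRingCat.ofHom (algebraMap K N) ≫ α = CommRingCat.ofHom (algebraMap K N) ≫ β := by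
      apply Spec.map_injective
      rw [Spec.map_comp, Spec.map_comp, hα, hβ]
      exact hab
    exact (congrArg (fun f : CommRingCat.of K ⟶ κ => f.hom c) this).symm
  let fα : N →ₐ[K] κ := ⟨α.hom, fun c => rfl⟩
  let fβ : N →ₐ[K] κ := ⟨β.hom, hK⟩
  let σ : N →ₐ[K] N := (AlgEquiv.ofInjectiveField fα).symm.toAlgHom.comp
    (fβ.codRestrict fα.range fun x => by
      have hx : fβ x ∈ fα.fieldRange :=
        ((Algebra.IsIntegral.isIntegral x).map fβ).mem_intermediateField_of_minpoly_splits (by
          rw [minpoly.algHom_eq fβ fβ.injective]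
          exact Polynomial.Splits.of_algHom (Normal.splits inferInstance x) (AlgHom.rangeRestrict fα))
      exact hx)
  have hσ : fα.comp σ = fβ := AlgHom.ext fun x => by
    show fα ((AlgEquiv.ofInjectiveField fα).symm _) = _
    exact congrArg Subtype.val ((AlgEquiv.ofInjectiveField fα).apply_symm_apply _)
  refine ⟨σ, a default, ?_⟩
  have key : a ≫ (prod.lift (𝟙 Y) (specMap σ)).left = P.left.fromSpecResidueField z := by
    let η := asIso (prodComparison (Scheme.Etale.forget X) Y Y)
    have h1 : (a ≫ (prod.lift (𝟙 Y) (specMap σ)).left) ≫ (prod.fst : P ⟶ Y).left = a := by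
      rw [Category.assoc]
      exact (congrArg (a ≫ ·) (congrArg (fun q : Y ⟶ Y => q.left) (prod.lift_fst (𝟙 Y) (specMap σ)))).trans
        (Category.comp_id a)
    have h2 : (a ≫ (prod.lift (𝟙 Y) (specMap σ)).left) ≫ (prod.snd : P ⟶ Y).left = b := by
      rw [Category.assoc]
      refine (congrArg (a ≫ ·) (congrArg (fun q : Y ⟶ Y => q.left) (prod.lift_snd (𝟙 Y) (specMap σ)))).trans ?_
      rw [← hα, ← hβ]
      refine (Spec.map_comp _ _).symm.trans (congrArg Spec.map (CommRingCat.hom_ext ?_))
      exact congrArg AlgHom.toRingHom hσ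
    let m₁ : Over.mk (a ≫ Y.hom) ⟶ (Scheme.Etale.forget X).obj P :=
      Over.homMk (a ≫ (prod.lift (𝟙 Y) (specMap σ)).left) (by
        refine (Category.assoc _ _ _).trans ?_
        exact congrArg (a ≫ ·) (Over.w (prod.lift (𝟙 Y) (specMap σ)).hom))
    let m₂ : Over.mk (a ≫ Y.hom) ⟶ (Scheme.Etale.forget X).obj P :=
      Over.homMk (P.left.fromSpecResidueField z) (by
        simp only [a, Over.mk_hom, Category.assoc]
        exact congrArg (P.left.fromSpecResidueField z ≫ ·) (Over.w (prod.fst : P ⟶ Y).hom).symm)
    have : m₁ = m₂ := by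
      rw [← cancel_mono η.hom]
      apply prod.hom_ext
      · simp only [η, asIso_hom, Category.assoc, prodComparison_fst]
        exact Over.OverMorphism.ext h1
      · simp only [η, asIso_hom, Category.assoc, prodComparison_snd]
        exact Over.OverMorphism.ext h2
    exact congrArg CommaMorphism.left this
  exact (congrArg (fun q : Spec κ ⟶ P.left => q default) key).trans (P.left.fromSpecResidueField_apply z _)

/-- A section over a Galois extension fixed by the automorphisms descends, uniquely. -/
theorem descend_galois [IsGalois K N] (F : EtCoh.Ab (Spec (CommRingCat.of K))) :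
    Function.Injective (F.obj.map ((EtCore.topIsTerminal _).from (specObj K N)).op) ∧
      Set.range (F.obj.map ((EtCore.topIsTerminal _).from (specObj K N)).op) =
        {s : EtCoh.sect F (specObj K N) | ∀ σ : N →ₐ[K] N, F.obj.map (specMap σ).op s = s} :=
  (EtCore45.isSheafFor_galois (fun σ : N →ₐ[K] N => specMap σ) (F.obj ⋙ forget AddCommGrpCat.{u + 1})
    (fun a b hab => by
      refine sub_eq_zero.1 (sect_eq_zero_of_local F _ fun z => ?_)
      obtain ⟨σ, y, hy⟩ := prod_jointly_surjective z
      refine ⟨_, _, y, hy, ?_⟩
      exact (map_sub (F.obj.map (prod.lift (𝟙 (specObj K N)) (specMap σ)).op).hom a b).trans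
        (sub_eq_zero.2 (congrFun hab σ)))).1
    (EtCore45.isSheafFor_singleton_top F _ surjective_specObj)

variable (L) in
/-- There is a natural trace whose composite with restriction is multiplication by the degree. -/
theorem exists_trace :
    ∃ tr : ∀ F : EtCoh.Ab (Spec (CommRingCat.of K)), EtCoh.sect F (specObj K L) →+ EtCoh.sect F (EtCoh.top _),
      (∀ (F G : EtCoh.Ab (Spec (CommRingCat.of K))) (φ : F ⟶ G) (s : EtCoh.sect F (specObj K L)),
        φ.hom.app (op (EtCoh.top _)) (tr F s) = tr G (φ.hom.app (op (specObj K L)) s)) ∧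
      ∀ (F : EtCoh.Ab (Spec (CommRingCat.of K))) (x : EtCoh.sect F (EtCoh.top _)),
        tr F (F.obj.map ((EtCore.topIsTerminal _).from (specObj K L)).op x) = Module.finrank K L • x := by
  classical
  let Ω := AlgebraicClosure K
  let N := IntermediateField.normalClosure K L Ω
  have : Algebra.IsSeparable K N := by
    have hle : (N : IntermediateField K Ω) ≤ separableClosure K Ω := by
      refine iSup_le fun f => ?_
      rintro _ ⟨x, rfl⟩
      exact mem_separableClosure_iff.2 ((Algebra.IsSeparable.isSeparable K x).map f f.injective)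
    exact Algebra.IsSeparable.of_algHom K _ (IntermediateField.inclusion hle)
  have : FiniteDimensional K N := normalClosure.is_finiteDimensional K L Ω
  have : Normal K N := normalClosure.normal K L Ω
  have : IsGalois K N := ⟨⟩
  have : Fintype (L →ₐ[K] N) := Fintype.ofFinite _
  have hcard : Fintype.card (L →ₐ[K] N) = Module.finrank K L := by
    rw [← AlgHom.card K L Ω]
    exact Fintype.card_congr (normalClosure.algHomEquiv K L Ω)
  let r : ∀ F : EtCoh.Ab (Spec (CommRingCat.of K)), EtCoh.sect F (EtCoh.top _) →+ EtCoh.sect F (specObj K N) :=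
    fun F => (F.obj.map ((EtCore.topIsTerminal _).from (specObj K N)).op).hom
  let S : ∀ F : EtCoh.Ab (Spec (CommRingCat.of K)), EtCoh.sect F (specObj K L) →+ EtCoh.sect F (specObj K N) :=
    fun F => ∑ σ : L →ₐ[K] N, (F.obj.map (specMap σ).op).hom
  have hinj : ∀ F, Function.Injective (r F) := fun F => (descend_galois (N := N) F).1
  have hex : ∀ F s, ∃ x, r F x = S F s := fun F s => by
    refine (descend_galois (N := N) F).2.ge fun τ => ?_
    simp only [S, AddMonoidHom.finsetSum_apply, map_sum]
    let τ' : N ≃ₐ[K] N := AlgEquiv.ofBijective τ (Algebra.IsAlgebraic.algHom_bijective τ)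
    refine Fintype.sum_equiv (AlgEquiv.arrowCongr (AlgEquiv.refl (R := K) (A₁ := L)) τ') _ _ fun σ => ?_
    refine (ConcreteCategory.congr_hom (F.obj.map_comp (specMap σ).op (specMap τ).op) s).symm.trans ?_
    rw [← op_comp, specMap_comp]
    rfl
  choose t ht using hex
  let tr : ∀ F : EtCoh.Ab (Spec (CommRingCat.of K)), EtCoh.sect F (specObj K L) →+ EtCoh.sect F (EtCoh.top _) :=
    fun F => AddMonoidHom.mk' (t F) fun a b => hinj F (by rw [map_add, ht, ht, ht, map_add])
  refine ⟨tr, fun F G φ s => hinj G ?_, fun F x => hinj F ?_⟩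
  · show G.obj.map _ (φ.hom.app _ (t F s)) = r G (t G _)
    rw [← NatTrans.naturality_apply φ.hom]
    refine (congrArg (φ.hom.app (op (specObj K N))) (ht F s)).trans (Eq.trans ?_ (ht G _).symm)
    simp only [S, AddMonoidHom.finsetSum_apply, map_sum]
    exact Finset.sum_congr rfl fun σ _ => NatTrans.naturality_apply φ.hom (specMap σ).op s
  · show r F (t F _) = _
    rw [ht, map_nsmul, ← hcard]
    simp only [S, AddMonoidHom.finsetSum_apply]
    rw [← Finset.card_univ, ← Finset.sum_const]
    refine Finset.sum_congr rfl fun σ _ => ?_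
    refine (ConcreteCategory.congr_hom (F.obj.map_comp ((EtCore.topIsTerminal _).from (specObj K L)).op
      (specMap σ).op) x).symm.trans ?_
    rw [← op_comp, (EtCore.topIsTerminal _).hom_ext (specMap σ ≫ _) ((EtCore.topIsTerminal _).from (specObj K N))]

end Groth.Agent.GalCoh84
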