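import Groth.Agent.GalCoh84.BrauerCd
import Groth.Agent.Csa25.CyclicBrauer
import Groth.Agent.Csa25.Wedderburn

/-!
# Cohomology of a field all of whose finite extensions have trivial Brauer group
-/

set_option autoImplicit false
set_option backward.isDefEq.respectTransparency.types false
universe u

open CategoryTheory CategoryTheory.Limits CategoryTheory.Abelian AlgebraicGeometry Opposite
open Groth.Agent

namespace Groth.Agent.GalCoh84

/-- Without nontrivial central division algebras every element is a norm from a cyclic extension. -/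
theorem norm_surjective_of_finrank_division {E : Type u} [Field E] (L : Type u) [Field L] [Algebra E L]
    [FiniteDimensional E L] [IsGalois E L] [IsCyclic (L ≃ₐ[E] L)]
    (hD : ∀ (D : Type u) [DivisionRing D] [Algebra E D] [Algebra.IsCentral E D] [FiniteDimensional E D],
      Module.finrank E D = 1)
    (x : E) (hx : x ≠ 0) : ∃ y : L, Algebra.norm E y = x := by
  obtain ⟨σ, hσ⟩ := IsCyclic.exists_generator (α := L ≃ₐ[E] L)
  obtain ⟨ι, yA, h⟩ := Csa25.exists_cycPres_cycAlg hσ (Units.mk0 x hx)
  let A := Csa25.cycAlg σ (Module.finrank E L) ((Units.mk0 x hx : Eˣ) : E)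
  have := h.isCentral hσ
  have := h.isSimpleRing hσ
  have := h.finiteDimensional
  obtain ⟨m, D, _, _, hm, _, _, ⟨e⟩⟩ := Csa25.exists_division E A
  have hb : Function.Bijective (Algebra.ofId E D) := by
    refine ⟨(algebraMap E D).injective, ?_⟩
    exact (LinearMap.injective_iff_surjective_of_finrank_eq_finrank (f := (Algebra.ofId E D).toLinearMap)
      (by rw [hD D, Module.finrank_self])).1 (algebraMap E D).injective
  have hs : Csa25.cl E A = 1 := Csa25.splits_iff_cl_eq_one.1 (Csa25.splits_self_iff.2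
    ⟨m, hm.ne', ⟨e.trans (AlgEquiv.ofBijective _ hb).symm.mapMatrix⟩⟩)
  exact (Csa25.cl_cyc_eq_one_iff hσ h).1 hs

theorem eq_zero_of_prime_torsion {A : Type*} [AddCommGroup A]
    (h : ∀ (p : ℕ), p.Prime → ∀ y : A, p • y = 0 → y = 0) : ∀ (n : ℕ), 0 < n → ∀ x : A, n • x = 0 → x = 0 := by
  intro n
  induction n using Nat.strong_induction_on with
  | _ n ih =>
    intro hn x hx
    rcases eq_or_ne n 1 with rfl | h1
    · rwa [one_smul] at hx
    obtain ⟨p, hp, m, rfl⟩ := Nat.exists_prime_and_dvd h1
    have hm : 0 < m := Nat.pos_of_mul_pos_left hn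
    refine ih m (lt_mul_of_one_lt_left hm hp.one_lt) hm x (h p hp _ ?_)
    rwa [smul_smul]

/-- Multiplication by `d` is injective on `Ext` when the torsion sheaves around it have no cohomology. -/
theorem eq_zero_of_nsmul_of_torsion {A : Type*} [Category A] [Abelian A] [HasExt.{u + 1} A] {M G : A} {n d : ℕ}
    (h₁ : ∀ T : A, d • 𝟙 T = 0 → ∀ y : Ext.{u + 1} M T n, y = 0)
    (h₂ : ∀ T : A, d • 𝟙 T = 0 → ∀ y : Ext.{u + 1} M T (n + 1), y = 0)
    (x : Ext.{u + 1} M G (n + 1)) (hx : d • x = 0) : x = 0 := by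
  let f : G ⟶ G := d • 𝟙 G
  have hker : d • 𝟙 (kernel f) = 0 := by
    rw [← cancel_mono (kernel.ι f), Preadditive.nsmul_comp, Category.id_comp, zero_comp]
    have h := kernel.condition f
    simp only [f, Preadditive.comp_nsmul, Category.comp_id] at h
    exact h
  have hcok : d • 𝟙 (cokernel f) = 0 := by
    rw [← cancel_epi (cokernel.π f), Preadditive.comp_nsmul, Category.comp_id, comp_zero]
    have h := cokernel.condition f
    simp only [f, Preadditive.nsmul_comp, Category.id_comp] at h
    exact h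
  let S₁ : ShortComplex A := ShortComplex.mk (kernel.ι f) (Abelian.factorThruImage f) (by
    rw [← cancel_mono (Abelian.image.ι f), Category.assoc, Abelian.image.fac, kernel.condition, zero_comp])
  have hS₁ : S₁.ShortExact :=
    { exact := ShortComplex.exact_of_f_is_kernel _ (KernelFork.IsLimit.ofι _ _
        (fun g hg => kernel.lift f g (by rw [← Abelian.image.fac f, ← Category.assoc, hg, zero_comp]))
        (fun g hg => kernel.lift_ι _ _ _)
        (fun g hg m hm => by rw [← cancel_mono (kernel.ι f), hm, kernel.lift_ι]))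
      mono_f := inferInstanceAs (Mono (kernel.ι f))
      epi_g := inferInstanceAs (Epi (Abelian.factorThruImage f)) }
  let S₂ : ShortComplex A := ShortComplex.mk (Abelian.image.ι f) (cokernel.π f) (kernel.condition _)
  have hS₂ : S₂.ShortExact :=
    { exact := ShortComplex.exact_of_f_is_kernel _ (kernelIsKernel (cokernel.π f))
      mono_f := inferInstanceAs (Mono (kernel.ι (cokernel.π f))) }
  have h0 : x.comp (Ext.mk₀ f) (add_zero _) = 0 := by
    simp only [f]
    rw [mk₀_nsmul]
    exact (((Ext.bilinearComp _ _ _ (n + 1) 0 (n + 1) (add_zero _)) x).map_nsmul _ _).trans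
      ((congrArg (d • ·) (Ext.comp_mk₀_id x)).trans hx)
  let z : Ext.{u + 1} M (Abelian.image f) (n + 1) := x.comp (Ext.mk₀ S₁.g) (add_zero _)
  have hz : z = 0 := by
    refine eq_zero_of_comp_mk₀ hS₂ rfl (h₁ _ hcok) z ?_
    show z.comp (Ext.mk₀ (Abelian.image.ι f)) _ = 0
    rw [Ext.comp_assoc_of_second_deg_zero, Ext.mk₀_comp_mk₀]
    exact (congrArg (fun k => x.comp (Ext.mk₀ k) (add_zero _)) (Abelian.image.fac f)).trans h0
  obtain ⟨y, rfl⟩ := Ext.covariant_sequence_exact₂ _ hS₁ x hz
  exact comp_eq_zero_of_eq_zero _ _ (h₂ _ hker y)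

variable (K : Type u) [Field K]
  (hBr : ∀ (K' : Type u) [Field K'] [Algebra K K'] [FiniteDimensional K K']
    (D : Type u) [DivisionRing D] [Algebra K' D] [Algebra.IsCentral K' D] [FiniteDimensional K' D],
    Module.finrank K' D = 1)

include hBr

theorem class_closed (E : Type u) [Field E] (hE : ∃ a : Algebra K E, @FiniteDimensional K E _ _ a.toModule)
    (M : Type u) [Field M] [Algebra E M] [FiniteDimensional E M] :
    ∃ a : Algebra K M, @FiniteDimensional K M _ _ a.toModule := by
  obtain ⟨a, ha⟩ := hE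
  let : Algebra K M := ((algebraMap E M).comp (algebraMap K E)).toAlgebra
  have : IsScalarTower K E M := IsScalarTower.of_algebraMap_eq fun _ => rfl
  exact ⟨inferInstance, FiniteDimensional.trans K E M⟩

theorem class_norm (p : ℕ) [Fact p.Prime] (E : Type u) [Field E]
    (hE : ∃ a : Algebra K E, @FiniteDimensional K E _ _ a.toModule) (L : Type u) [Field L] [Algebra E L]
    [FiniteDimensional E L] [IsGalois E L] (hd : Module.finrank E L = p) (x : E) (hx : x ≠ 0) :
    ∃ y : L, Algebra.norm E y = x := by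
  obtain ⟨a, ha⟩ := hE
  have : IsCyclic (L ≃ₐ[E] L) := isCyclic_of_prime_card (p := p) ((IsGalois.card_aut_eq_finrank E L).trans hd)
  exact norm_surjective_of_finrank_division L (fun D _ _ _ _ => hBr E D) x hx

/-- Torsion sheaves have no cohomology in degree at least two. -/
theorem torsion_vanish (F : EtCoh.Ab (Spec (CommRingCat.of K))) (hF : EtCoh.IsTorsion F) (q : ℕ) (hq : 2 ≤ q)
    (x : EtCoh.H (Spec (CommRingCat.of K)) F q) : x = 0 := by
  obtain ⟨n, hn, hnx⟩ := isOfFinAddOrder_iff_nsmul_eq_zero.1 (isOfFinAddOrder_H (i := q) (by omega) x)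
  refine eq_zero_of_prime_torsion (fun p hp y hy => ?_) n hn x hnx
  have := Fact.mk hp
  by_cases h0 : (p : K) = 0
  · have : CharP K p := (CharP.charP_iff_prime_eq_zero hp).2 h0
    exact cohDim_le_one_of_charP K p F hF q hq y (m := 1) (by rwa [pow_one])
  · exact cohDim_le_one_of_norm (p := p) _ (fun E _ hE M _ _ _ _ => class_closed K hBr E hE M)
      (fun E _ hE L _ _ _ _ hd => class_norm K hBr p E hE L hd) K ⟨Algebra.id K, inferInstance⟩ h0 F hF q hq y
      ⟨1, by rwa [pow_one]⟩

/-- The multiplicative group has no cohomology in positive degree. -/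
theorem Gm_vanish (q : ℕ) (hq : 1 ≤ q)
    (x : EtCoh.H (Spec (CommRingCat.of K)) (EtCoh.Gm (Spec (CommRingCat.of K))) q) : x = 0 := by
  obtain ⟨n, hn, hnx⟩ := isOfFinAddOrder_iff_nsmul_eq_zero.1 (isOfFinAddOrder_H (i := q) (by omega) x)
  rcases Nat.lt_or_ge q 3 with hq3 | hq3
  · interval_cases q
    · exact H1_Gm_eq_zero x
    · refine eq_zero_of_prime_torsion (fun p hp y hy => ?_) n hn x hnx
      have := Fact.mk hp
      exact H2_Gm_eq_zero_of_norm (p := p) _ (fun E _ hE M _ _ _ _ => class_closed K hBr E hE M)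
        (fun E _ hE L _ _ _ _ hd => class_norm K hBr p E hE L hd) K ⟨Algebra.id K, inferInstance⟩ y (a := 1)
        (by rwa [pow_one])
  · obtain ⟨r, rfl⟩ := Nat.exists_eq_add_of_le hq3
    revert x
    rw [show 3 + r = (2 + r) + 1 by omega]
    intro x hnx
    refine eq_zero_of_prime_torsion (fun p hp y hy => ?_) n hn x hnx
    exact eq_zero_of_nsmul_of_torsion
      (fun T hT z => torsion_vanish K hBr T (isTorsion_of_nsmul_id hp.pos hT) (2 + r) (by omega) z)
      (fun T hT z => torsion_vanish K hBr T (isTorsion_of_nsmul_id hp.pos hT) (2 + r + 1) (by omega) z) y hy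

end Groth.Agent.GalCoh84
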