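import Groth.Agent.EtCore45.Acyclic

/-!
# Pulling back global sections to an étale object is restriction
-/

set_option autoImplicit false
set_option backward.isDefEq.respectTransparency.types false
universe u

open CategoryTheory CategoryTheory.Limits CategoryTheory.Abelian AlgebraicGeometry Opposite
open Groth.Agent

namespace Groth.Agent.GalCoh84

variable {X : Scheme.{u}} (W : X.Etale)

theorem unit_pullConst_restr (M : AddCommGrpCat.{u + 1}) [Etale W.hom] :
    (EtCore.constAdj W.left).unit.app M ≫ (EtCore.gsec W.left).map ((EtCore.pullConstIso W.hom).inv.app M) ≫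
      (EtCore.gsec W.left).map ((EtCore45.pullRestrIso W.hom).hom.app _) ≫
        ((constantSheaf X.smallEtaleTopology AddCommGrpCat.{u + 1}).obj M).obj.map (EtCore45.topCompIso W).inv.op =
      (EtCore.constAdj X).unit.app M ≫
        ((constantSheaf X.smallEtaleTopology AddCommGrpCat.{u + 1}).obj M).obj.map
          ((EtCore.topIsTerminal X).from W).op := by
  let C := (constantSheaf X.smallEtaleTopology AddCommGrpCat.{u + 1}).obj M
  let A := ((EtCore.constAdj X).comp (EtCoh.pullPushAdj W.hom)).ofNatIsoRight (EtCore.pushGsecIso W.hom)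
  have h1 : A.unit.app M ≫ (EtCore.gsec W.left).map ((EtCore.pullConstIso W.hom).hom.app M) =
      (EtCore.constAdj W.left).unit.app M :=
    Adjunction.unit_leftAdjointUniq_hom_app A (EtCore.constAdj W.left) M
  have h2 : (EtCore.constAdj W.left).unit.app M ≫ (EtCore.gsec W.left).map ((EtCore.pullConstIso W.hom).inv.app M) =
      A.unit.app M := by
    rw [← h1, Category.assoc, ← Functor.map_comp, Iso.hom_inv_id_app]
    exact (congrArg (A.unit.app M ≫ ·) ((EtCore.gsec W.left).map_id _)).trans (Category.comp_id _)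
  have h3 : A.unit.app M = (EtCore.constAdj X).unit.app M ≫
      ((EtCoh.pullPushAdj W.hom).unit.app C).hom.app (op (EtCoh.top X)) ≫
        ((EtCoh.pull W.hom).obj C).obj.map (EtCore.bcTopIso W.hom).inv.op := by
    simp only [A, Adjunction.ofNatIsoRight, Adjunction.mkOfHomEquiv_unit_app, Adjunction.comp_unit_app,
      Equiv.trans_apply, Adjunction.homEquiv_unit]
    simp [EtCore.pushGsecIso, C]
  have h4 : ((EtCoh.pullPushAdj W.hom).unit.app C).hom.app (op (EtCoh.top X)) ≫
      ((EtCore45.pullRestrIso W.hom).hom.app C).hom.app (op ((EtCoh.bc W.hom).obj (EtCoh.top X))) =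
      C.obj.map ((EtCore45.compBcAdj W.hom).counit.app (EtCoh.top X)).op := by
    have h := congrArg (fun k => k.hom.app (op (EtCoh.top X)))
      (Adjunction.unit_leftAdjointUniq_hom_app (EtCoh.pullPushAdj W.hom) (EtCore45.restrPushAdj W.hom) C)
    exact h
  rw [reassoc_of% h2, h3]
  simp only [Category.assoc]
  refine congrArg ((EtCore.constAdj X).unit.app M ≫ ·) ?_
  have h5 := ((EtCore45.pullRestrIso W.hom).hom.app C).hom.naturality (EtCore.bcTopIso W.hom).inv.op
  refine (congrArg (((EtCoh.pullPushAdj W.hom).unit.app C).hom.app (op (EtCoh.top X)) ≫ ·)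
    ((Category.assoc _ _ _).symm.trans ((congrArg (· ≫ C.obj.map (EtCore45.topCompIso W).inv.op) h5).trans
      (Category.assoc _ _ _)))).trans ?_
  refine ((Category.assoc _ _ _).symm.trans (congrArg (· ≫ _) h4)).trans ?_
  refine (congrArg (C.obj.map _ ≫ ·) (C.obj.map_comp _ _).symm).trans ((C.obj.map_comp _ _).symm.trans ?_)
  exact congrArg (fun k => C.obj.map k) (congrArg Quiver.Hom.op ((EtCore.topIsTerminal X).hom_ext
    ((EtCore45.topCompIso W).inv ≫ (EtShriek.compEtale W.hom).map (EtCore.bcTopIso W.hom).inv ≫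
      (EtCore45.compBcAdj W.hom).counit.app (EtCoh.top X)) _))

theorem secPull_pullback (G : EtCoh.Ab X) (φ : EtCoh.const X ℤ ⟶ G) :
    EtCore45.secPull W G ((EtCore.pullConst W.hom ℤ).inv ≫ (EtCoh.pull W.hom).map φ) =
      G.obj.map ((EtCore.topIsTerminal X).from W).op (EtDesc45.secZ (EtCore.topIsTerminal X) G φ) := by
  have : Etale W.hom := W.prop
  rw [EtCore45.secPull_comp]
  have h0 : EtDesc45.secZ (EtCore.topIsTerminal X) G φ =
      φ.hom.app (op (EtCoh.top X)) (EtDesc45.secZ (EtCore.topIsTerminal X) _ (𝟙 _)) := by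
    rw [← EtDesc45.secZ_comp, Category.id_comp]
  rw [h0, ← NatTrans.naturality_apply φ.hom]
  congr 1
  simp only [EtCore45.secPull, AddEquiv.trans_apply, EtDesc45.secZ, Adjunction.homAddEquiv_apply,
    Adjunction.homEquiv_unit, Functor.map_id, Category.comp_id]
  have key := unit_pullConst_restr W (AddCommGrpCat.of (ULift.{u + 1} ℤ))
  have hu : ∀ (A : AddCommGrpCat.{u + 1}) (f : AddCommGrpCat.of (ULift.{u + 1} ℤ) ⟶ A),
      A.uliftZMultiplesAddEquiv f = f (ULift.up 1) := fun A f => rfl
  rw [hu, hu]
  have hk := ConcreteCategory.congr_hom key (ULift.up 1)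
  simp only [ConcreteCategory.comp_apply] at hk ⊢
  refine Eq.trans ?_ (hk.trans ?_)
  · rfl
  · refine (congrArg (fun y => ((constantSheaf X.smallEtaleTopology AddCommGrpCat.{u + 1}).obj
      (AddCommGrpCat.of (ULift.{u + 1} ℤ))).obj.map ((EtCore.topIsTerminal X).from W).op y) ?_)
    exact (ConcreteCategory.congr_hom ((EtCore.gsec X).map_id _) _).symm

end Groth.Agent.GalCoh84
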