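import Groth.Agent.GalCoh84.Trace
import Groth.Agent.GalCoh84.PullSec
import Groth.Agent.Unr55.Et.AffineRefine

/-!
# Degree kills classes split by a finite separable extension
-/

set_option autoImplicit false
set_option backward.isDefEq.respectTransparency.types false
universe u

open CategoryTheory CategoryTheory.Limits CategoryTheory.Abelian AlgebraicGeometry Opposite
open Groth.Agent

namespace Groth.Agent.GalCoh84

section abstract

universe w v'

variable {C : Type*} [Category.{v'} C] [Abelian C] [HasExt.{w} C] {S : ShortComplex C} (hS : S.ShortExact) {A : C}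

theorem delta_mk₀_eq_zero_iff (φ : A ⟶ S.X₃) :
    (Ext.mk₀ φ).comp hS.extClass (zero_add 1) = 0 ↔ ∃ ψ : A ⟶ S.X₂, ψ ≫ S.g = φ := by
  constructor
  · intro h
    obtain ⟨ψ', hψ'⟩ := Ext.covariant_sequence_exact₃ _ hS _ (zero_add 1) h
    obtain ⟨ψ, rfl⟩ := Ext.addEquiv₀.symm.surjective ψ'
    exact ⟨ψ, (Ext.mk₀_bijective _ _).1 ((Ext.mk₀_comp_mk₀ _ _).symm.trans hψ')⟩
  · rintro ⟨ψ, rfl⟩
    rw [← Ext.mk₀_comp_mk₀, Ext.comp_assoc _ _ _ (add_zero 0) (zero_add 1) (by omega), hS.comp_extClass,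
      Ext.comp_zero]

theorem eq_zero_of_comp_extClass {n m : ℕ} (hn : n + 1 = m) [Subsingleton (Ext.{w} A S.X₂ n)]
    (β : Ext.{w} A S.X₃ n) (h : β.comp hS.extClass hn = 0) : β = 0 := by
  obtain ⟨γ, rfl⟩ := Ext.covariant_sequence_exact₃ _ hS _ hn h
  rw [Subsingleton.elim γ 0, Ext.zero_comp]

theorem exists_comp_extClass {n m : ℕ} (hn : n + 1 = m) [Subsingleton (Ext.{w} A S.X₂ m)]
    (α : Ext.{w} A S.X₁ m) : ∃ β : Ext.{w} A S.X₃ n, β.comp hS.extClass hn = α :=
  Ext.covariant_sequence_exact₁ _ hS α (Subsingleton.elim _ _) hn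

theorem nsmul_comp_extClass {n m : ℕ} (hn : n + 1 = m) (d : ℕ) (β : Ext.{w} A S.X₃ n) :
    d • β.comp hS.extClass hn = (d • β).comp hS.extClass hn :=
  (map_nsmul (hS.extClass.postcomp A hn) d β).symm

theorem mk₀_nsmul {B : C} (d : ℕ) (φ : A ⟶ B) : Ext.mk₀ (d • φ) = d • Ext.mk₀.{w} φ :=
  map_nsmul Ext.addEquiv₀.symm d φ

end abstract

section general

variable {X Y : Scheme.{u}} (f : X ⟶ Y) [PreservesFiniteLimits (EtCoh.pull f)]

theorem Hpull_mk₀ {G : EtCoh.Ab Y} (φ : EtCoh.const Y ℤ ⟶ G) :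
    EtCore.Hpull f G 0 (Ext.mk₀ φ) = Ext.mk₀ ((EtCore.pullConst f ℤ).inv ≫ (EtCoh.pull f).map φ) := by
  refine Eq.trans ?_ (Ext.mk₀_comp_mk₀ _ _)
  exact congrArg (fun z => (Ext.mk₀ (EtCore.pullConst f ℤ).inv).comp z (zero_add 0))
    (Ext.mapExactFunctor_mk₀ (EtCoh.pull f) φ)

theorem Hpull_extClass {S : ShortComplex (EtCoh.Ab Y)} (hS : S.ShortExact) {n m : ℕ} (h : n + 1 = m)
    (β : EtCoh.H Y S.X₃ n) :
    EtCore.Hpull f S.X₁ m (β.comp hS.extClass h) =
      (EtCore.Hpull f S.X₃ n β).comp (hS.map_of_exact (EtCoh.pull f)).extClass h := by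
  have e : (β.comp hS.extClass h).mapExactFunctor (EtCoh.pull f) =
      (β.mapExactFunctor (EtCoh.pull f)).comp (hS.map_of_exact (EtCoh.pull f)).extClass h := by
    rw [Ext.mapExactFunctor_comp, Ext.mapExactFunctor_extClass] <;> rfl
  refine (congrArg (fun z => (Ext.mk₀ (EtCore.pullConst f ℤ).inv).comp z (zero_add m)) e).trans ?_
  exact (Ext.comp_assoc _ _ _ (zero_add n) h (by omega)).symm

theorem Hpull_naturality {G G' : EtCoh.Ab Y} (ψ : G ⟶ G') (n : ℕ) (x : EtCoh.H Y G n) :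
    EtCore.Hpull f G' n (x.comp (Ext.mk₀ ψ) (add_zero n)) =
      (EtCore.Hpull f G n x).comp (Ext.mk₀ ((EtCoh.pull f).map ψ)) (add_zero n) := by
  have e : (x.comp (Ext.mk₀ ψ) (add_zero n)).mapExactFunctor (EtCoh.pull f) =
      (x.mapExactFunctor (EtCoh.pull f)).comp (Ext.mk₀ ((EtCoh.pull f).map ψ)) (add_zero n) := by
    rw [Ext.mapExactFunctor_comp, Ext.mapExactFunctor_mk₀]
  refine (congrArg (fun z => (Ext.mk₀ (EtCore.pullConst f ℤ).inv).comp z (zero_add n)) e).trans ?_
  exact (Ext.comp_assoc _ _ _ (zero_add n) (add_zero n) (by omega)).symm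

end general

section delta

variable {X : Scheme.{u}} (W : X.Etale) [hW : PreservesFiniteLimits (EtCoh.pull W.hom)]
  {S : ShortComplex (EtCoh.Ab X)} (hS : S.ShortExact)

/-- The boundary of a global section vanishes on `W` iff the section lifts there. -/
theorem Hpull_delta_eq_zero_iff (φ : EtCoh.const X ℤ ⟶ S.X₃) :
    EtCore.Hpull W.hom S.X₁ 1 ((Ext.mk₀ φ).comp hS.extClass (zero_add 1)) = 0 ↔
      ∃ t : EtCoh.sect S.X₂ W, S.g.hom.app (op W) t =
        S.X₃.obj.map ((EtCore.topIsTerminal X).from W).op (EtDesc45.secZ (EtCore.topIsTerminal X) S.X₃ φ) := by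
  rw [Hpull_extClass, Hpull_mk₀, ← secPull_pullback]
  let P := EtCoh.pull W.hom
  have hP : PreservesFiniteLimits P := hW
  have h' := hS.map_of_exact P
  refine (delta_mk₀_eq_zero_iff h' _).trans ?_
  constructor
  · rintro ⟨ψ, hψ⟩
    exact ⟨EtCore45.secPull W S.X₂ ψ, (EtCore45.secPull_comp W S.g ψ).symm.trans (congrArg _ hψ)⟩
  · rintro ⟨t, ht⟩
    obtain ⟨ψ, rfl⟩ := (EtCore45.secPull W S.X₂).surjective t
    exact ⟨ψ, (EtCore45.secPull W S.X₃).injective ((EtCore45.secPull_comp W S.g ψ).trans ht)⟩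

theorem Hpull_eq_zero_of_delta [Injective S.X₂] {n : ℕ} (β : EtCoh.H X S.X₃ (n + 1))
    (h : EtCore.Hpull W.hom S.X₁ (n + 2) (β.comp hS.extClass rfl) = 0) :
    EtCore.Hpull W.hom S.X₃ (n + 1) β = 0 := by
  rw [Hpull_extClass] at h
  have : Subsingleton (EtCoh.H W.left ((EtCoh.pull W.hom).obj S.X₂) (n + 1)) :=
    EtCore45.isAcyclicEt_injective S.X₂ W (n + 1) n.succ_pos
  exact @eq_zero_of_comp_extClass _ _ _ _ _ _ _ _ _ _ this _ h

end delta

variable {K : Type u} [Field K]

theorem finrank_nsmul_eq_zero_aux (L : Type u) [Field L] [Algebra K L] [FiniteDimensional K L]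
    [Algebra.IsSeparable K L] [PreservesFiniteLimits (EtCoh.pull (specObj K L).hom)] :
    ∀ (n : ℕ) (F : EtCoh.Ab (Spec (CommRingCat.of K))) (α : EtCoh.H (Spec (CommRingCat.of K)) F (n + 1)),
      EtCore.Hpull (specObj K L).hom F (n + 1) α = 0 → Module.finrank K L • α = 0 := by
  intro n
  induction n with
  | zero =>
    intro F α hα
    let S := EtCore45.injSeq F
    have hS : S.ShortExact := EtCore45.injSeq_shortExact F
    have hI : Injective S.X₂ := inferInstanceAs (Injective (Injective.under F))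
    have : Subsingleton (EtCoh.H (Spec (CommRingCat.of K)) S.X₂ 1) := Ext.subsingleton_of_injective (EtCoh.const (Spec (CommRingCat.of K)) ℤ) S.X₂ 0
    obtain ⟨β, rfl⟩ := exists_comp_extClass hS rfl α
    obtain ⟨φ, rfl⟩ := Ext.addEquiv₀.symm.surjective β
    obtain ⟨t, ht⟩ := (Hpull_delta_eq_zero_iff (specObj K L) hS φ).1 hα
    obtain ⟨tr, hnat, hdeg⟩ := exists_trace (K := K) L
    let T := EtCore.topIsTerminal (Spec (CommRingCat.of K))
    have hu : S.g.hom.app (op (EtCoh.top _)) (tr S.X₂ t) =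
        Module.finrank K L • EtDesc45.secZ T S.X₃ φ := by
      rw [hnat, ht, hdeg]
    obtain ⟨ψ, hψ⟩ := (EtDesc45.secZ T S.X₂).surjective (tr S.X₂ t)
    rw [← hψ, ← EtDesc45.secZ_comp, ← map_nsmul] at hu
    refine (nsmul_comp_extClass hS rfl _ _).trans ?_
    refine (congrArg (fun z => Ext.comp z hS.extClass rfl) (mk₀_nsmul _ φ).symm).trans ?_
    exact (delta_mk₀_eq_zero_iff hS _).2 ⟨ψ, (EtDesc45.secZ T S.X₃).injective hu⟩
  | succ n ih =>
    intro F α hα
    let S := EtCore45.injSeq F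
    have hS : S.ShortExact := EtCore45.injSeq_shortExact F
    have hI : Injective S.X₂ := inferInstanceAs (Injective (Injective.under F))
    have : Subsingleton (EtCoh.H (Spec (CommRingCat.of K)) S.X₂ (n + 2)) := Ext.subsingleton_of_injective (EtCoh.const (Spec (CommRingCat.of K)) ℤ) S.X₂ (n + 1)
    obtain ⟨β, rfl⟩ := exists_comp_extClass hS rfl α
    have h := ih S.X₃ β (Hpull_eq_zero_of_delta (specObj K L) hS β hα)
    refine (nsmul_comp_extClass hS rfl _ β).trans ?_
    rw [h]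
    exact Ext.zero_comp _ _ _ _ _

/-- A class killed by a finite separable extension is killed by its degree. -/
theorem finrank_nsmul_eq_zero (L : Type u) [Field L] [Algebra K L] [FiniteDimensional K L]
    [Algebra.IsSeparable K L]
    [h : PreservesFiniteLimits (EtCoh.pull (Spec.map (CommRingCat.ofHom (algebraMap K L))))]
    {F : EtCoh.Ab (Spec (CommRingCat.of K))} {i : ℕ} (hi : 0 < i) (α : EtCoh.H (Spec (CommRingCat.of K)) F i)
    (hα : EtCore.Hpull (Spec.map (CommRingCat.ofHom (algebraMap K L))) F i α = 0) :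
    Module.finrank K L • α = 0 := by
  obtain ⟨n, rfl⟩ := Nat.exists_eq_add_one.2 hi
  have : PreservesFiniteLimits (EtCoh.pull (specObj K L).hom) := h
  exact finrank_nsmul_eq_zero_aux L n F α hα

/-- A section of the target of an epimorphism lifts over a finite separable extension. -/
theorem exists_lift_ext {G H : EtCoh.Ab (Spec (CommRingCat.of K))} (g : G ⟶ H) [Epi g]
    (s : EtCoh.sect H (EtCoh.top _)) :
    ∃ (L : Type u) (_ : Field L) (_ : Algebra K L) (_ : FiniteDimensional K L) (_ : Algebra.IsSeparable K L)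
      (t : EtCoh.sect G (specObj K L)),
      g.hom.app (op (specObj K L)) t = H.obj.map ((EtCore.topIsTerminal _).from (specObj K L)).op s := by
  have : Sheaf.IsLocallySurjective g := (Sheaf.isLocallySurjective_iff_epi' AddCommGrpCat.{u + 1} g).2 ‹_›
  have hS := Unr55.EtaleAff.mem_topology_iff
    (Presheaf.imageSieve_mem (Spec (CommRingCat.of K)).smallEtaleTopology g.hom s)
  obtain ⟨V, f, v, hf, -, -⟩ := (Scheme.mem_toGrothendieck_smallPretopology _ _).1 hS (⊥ : PrimeSpectrum K)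
  obtain ⟨t, ht⟩ := hf
  obtain ⟨ι, M, _, _, _, _, e, he⟩ := (EtCore45.etale_field_iff V.hom).1 V.prop
  obtain ⟨⟨i, x⟩, -⟩ := (sigmaMk fun i => Spec (CommRingCat.of (M i))).surjective (e.inv v)
  let p : specObj K (M i) ⟶ V := MorphismProperty.Over.homMk
    (Sigma.ι (fun i => Spec (CommRingCat.of (M i))) i ≫ e.hom) ((Category.assoc _ _ _).trans (he i)) trivial
  refine ⟨M i, inferInstance, inferInstance, inferInstance, inferInstance, G.obj.map p.op t, ?_⟩
  rw [NatTrans.naturality_apply]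
  refine (congrArg (H.obj.map p.op) ht).trans ?_
  refine (ConcreteCategory.congr_hom (H.obj.map_comp f.op p.op) s).symm.trans ?_
  exact congrArg (fun k => H.obj.map k s) (congrArg Quiver.Hom.op
    ((EtCore.topIsTerminal _).hom_ext (p ≫ f) ((EtCore.topIsTerminal _).from _)))

theorem exists_killing_aux :
    ∀ (n : ℕ) (F : EtCoh.Ab (Spec (CommRingCat.of K))) (α : EtCoh.H (Spec (CommRingCat.of K)) F (n + 1)),
      ∃ (L : Type u) (_ : Field L) (_ : Algebra K L) (_ : FiniteDimensional K L) (_ : Algebra.IsSeparable K L)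
        (_ : PreservesFiniteLimits (EtCoh.pull (specObj K L).hom)),
        EtCore.Hpull (specObj K L).hom F (n + 1) α = 0 := by
  intro n
  induction n with
  | zero =>
    intro F α
    let S := EtCore45.injSeq F
    have hS : S.ShortExact := EtCore45.injSeq_shortExact F
    have hI : Injective S.X₂ := inferInstanceAs (Injective (Injective.under F))
    have : Epi S.g := hS.epi_g
    have : Subsingleton (EtCoh.H (Spec (CommRingCat.of K)) S.X₂ 1) := Ext.subsingleton_of_injective (EtCoh.const (Spec (CommRingCat.of K)) ℤ) S.X₂ 0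
    obtain ⟨β, rfl⟩ := exists_comp_extClass hS rfl α
    obtain ⟨φ, rfl⟩ := Ext.addEquiv₀.symm.surjective β
    obtain ⟨L, _, _, _, _, t, ht⟩ := exists_lift_ext S.g (EtDesc45.secZ (EtCore.topIsTerminal _) S.X₃ φ)
    have hp := Unr55.EtSh.preservesFiniteLimits_pull (specObj K L).hom
    exact ⟨L, inferInstance, inferInstance, inferInstance, inferInstance, hp,
      (Hpull_delta_eq_zero_iff (specObj K L) hS φ).2 ⟨t, ht⟩⟩
  | succ n ih =>
    intro F α
    let S := EtCore45.injSeq F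
    have hS : S.ShortExact := EtCore45.injSeq_shortExact F
    have hI : Injective S.X₂ := inferInstanceAs (Injective (Injective.under F))
    have : Subsingleton (EtCoh.H (Spec (CommRingCat.of K)) S.X₂ (n + 2)) := Ext.subsingleton_of_injective (EtCoh.const (Spec (CommRingCat.of K)) ℤ) S.X₂ (n + 1)
    obtain ⟨β, rfl⟩ := exists_comp_extClass hS rfl α
    obtain ⟨L, _, _, _, _, hp, h⟩ := ih S.X₃ β
    refine ⟨L, inferInstance, inferInstance, inferInstance, inferInstance, hp, ?_⟩
    refine (Hpull_extClass (specObj K L).hom hS rfl β).trans ?_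
    rw [h]
    exact Ext.zero_comp _ _ _ _ _

/-- Positive degree cohomology of a field is torsion. -/
theorem isOfFinAddOrder_H {F : EtCoh.Ab (Spec (CommRingCat.of K))} {i : ℕ} (hi : 0 < i)
    (α : EtCoh.H (Spec (CommRingCat.of K)) F i) : IsOfFinAddOrder α := by
  obtain ⟨n, rfl⟩ := Nat.exists_eq_add_one.2 hi
  obtain ⟨L, _, _, _, _, _, h⟩ := exists_killing_aux n F α
  exact isOfFinAddOrder_iff_nsmul_eq_zero.2 ⟨Module.finrank K L, Module.finrank_pos, finrank_nsmul_eq_zero_aux L n F α h⟩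

end Groth.Agent.GalCoh84

namespace Groth.Agent.GalCoh84

universe w' v''

theorem eq_zero_of_nsmul_of_isIso {C : Type*} [Category.{v''} C] [Abelian C] [HasExt.{w'} C] {A B : C} {i : ℕ}
    (n : ℕ) [IsIso (n • 𝟙 B)] (x : Ext.{w'} A B i) (h : n • x = 0) : x = 0 := by
  have e : x.comp (Ext.mk₀ (n • 𝟙 B)) (add_zero i) = 0 := by
    rw [mk₀_nsmul]
    exact (map_nsmul ((Ext.bilinearComp A B B i 0 i (add_zero i)) x) n _).trans ((congrArg (n • ·) (Ext.comp_mk₀_id x)).trans h)
  calc x = x.comp (Ext.mk₀ (𝟙 B)) (add_zero i) := (Ext.comp_mk₀_id x).symm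
    _ = (x.comp (Ext.mk₀ (n • 𝟙 B)) (add_zero i)).comp (Ext.mk₀ (inv (n • 𝟙 B))) (add_zero i) := by
        rw [Ext.comp_assoc_of_third_deg_zero, Ext.mk₀_comp_mk₀, IsIso.hom_inv_id]
    _ = 0 := by rw [e, Ext.zero_comp]

end Groth.Agent.GalCoh84
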