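import Groth.Agent.GalCoh84.Cohom
import Groth.Agent.EtCore45.EtalePull

/-!
# Torsion sheaves and finite separable extensions of degree prime to p
-/

set_option autoImplicit false
set_option backward.isDefEq.respectTransparency.types false
universe u

open CategoryTheory CategoryTheory.Limits CategoryTheory.Abelian AlgebraicGeometry Opposite
open Groth.Agent

namespace Groth.Agent.GalCoh84

theorem isTorsion_of_iso {X : Scheme.{u}} {F G : EtCoh.Ab X} (e : F ≅ G) (hF : EtCoh.IsTorsion F) :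
    EtCoh.IsTorsion G := by
  intro U s x
  obtain ⟨V, g, hx, h⟩ := hF U (e.inv.hom.app (op U) s) x
  refine ⟨V, g, hx, ?_⟩
  have h1 := (e.hom.hom.app (op V)).hom.isOfFinAddOrder h
  have h2 : e.hom.hom.app (op V) (F.obj.map g.op (e.inv.hom.app (op U) s)) = G.obj.map g.op s := by
    rw [← NatTrans.naturality_apply e.inv.hom]
    exact congrArg (fun k : G ⟶ G => k.hom.app (op V) (G.obj.map g.op s)) e.inv_hom_id
  exact h2 ▸ h1

theorem isTorsion_restrAlong {U X : Scheme.{u}} (j : U ⟶ X) [Etale j] [EtShriek.JCont j] {F : EtCoh.Ab X}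
    (hF : EtCoh.IsTorsion F) : EtCoh.IsTorsion ((EtShriek.restrAlong j).obj F) := by
  intro U' s x
  obtain ⟨V, g, hx, h⟩ := hF ((EtShriek.compEtale j).obj U') s x
  obtain ⟨v, hv⟩ := hx
  have e : (g.left ≫ U'.hom) ≫ j = V.hom := (Category.assoc _ _ _).trans (MorphismProperty.Over.w g)
  have hV : EtCoh.etaleMP (g.left ≫ U'.hom) :=
    EtCoh.etaleMP.of_postcomp (W' := EtCoh.etaleMP) (g.left ≫ U'.hom) j ‹Etale j› (e.symm ▸ V.prop)
  let V' : U.Etale := MorphismProperty.Over.mk ⊤ (g.left ≫ U'.hom) hV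
  let g' : V' ⟶ U' := MorphismProperty.Over.homMk g.left rfl trivial
  let i : (EtShriek.compEtale j).obj V' ⟶ V := MorphismProperty.Over.homMk (𝟙 _)
    ((Category.id_comp _).trans e.symm) trivial
  have hg : (EtShriek.compEtale j).map g' = i ≫ g := MorphismProperty.Over.Hom.ext (Category.id_comp _).symm
  refine ⟨V', g', ⟨v, hv⟩, ?_⟩
  have h' := (F.obj.map i.op).hom.isOfFinAddOrder h
  have e' : F.obj.map i.op (F.obj.map g.op s) = F.obj.map ((EtShriek.compEtale j).map g').op s :=
    ((ConcreteCategory.congr_hom (F.obj.map_comp g.op i.op) s).symm).trans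
      (congrArg (fun k => F.obj.map k s) (congrArg Quiver.Hom.op hg.symm))
  exact e' ▸ h'

/-- Inverse image along an étale morphism preserves torsion sheaves. -/
theorem isTorsion_pull {U X : Scheme.{u}} (j : U ⟶ X) [Etale j] {F : EtCoh.Ab X}
    (hF : EtCoh.IsTorsion F) : EtCoh.IsTorsion ((EtCoh.pull j).obj F) :=
  isTorsion_of_iso ((EtCore45.pullRestrIso j).app F).symm (isTorsion_restrAlong j hF)

theorem eq_zero_of_coprime {A : Type*} [AddCommGroup A] {x : A} {p d m : ℕ} (hp : p.Prime) (hd : ¬ p ∣ d)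
    (h1 : d • x = 0) (h2 : p ^ m • x = 0) : x = 0 := by
  have h := Nat.dvd_gcd (addOrderOf_dvd_of_nsmul_eq_zero h1) (addOrderOf_dvd_of_nsmul_eq_zero h2)
  rw [Nat.Coprime.pow_right m ((hp.coprime_iff_not_dvd.2 hd).symm), Nat.dvd_one, AddMonoid.addOrderOf_eq_one_iff] at h
  exact h

/-- A finite separable extension of degree prime to p does not lower p-cohomological dimension. -/
theorem cohDim_p_descends {k : Type u} [Field k] (K : Type u) [Field K] [Algebra k K] [FiniteDimensional k K]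
    [Algebra.IsSeparable k K] {p : ℕ} (hp : p.Prime) (hdeg : ¬ p ∣ Module.finrank k K) {q : ℕ} (hq : 0 < q)
    (hcd : ∀ (F : EtCoh.Ab (Spec (CommRingCat.of K))), EtCoh.IsTorsion F →
        ∀ x : EtCoh.H (Spec (CommRingCat.of K)) F q, (∃ m : ℕ, p ^ m • x = 0) → x = 0)
    {F : EtCoh.Ab (Spec (CommRingCat.of k))} (hF : EtCoh.IsTorsion F)
    (x : EtCoh.H (Spec (CommRingCat.of k)) F q) {m : ℕ} (hx : p ^ m • x = 0) : x = 0 := by
  let f := Spec.map (CommRingCat.ofHom (algebraMap k K))
  have : Etale f := etale_specMap K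
  have := Unr55.EtSh.preservesFiniteLimits_pull f
  have h : EtCore.Hpull f F q x = 0 := hcd _ (isTorsion_pull f hF) _
    ⟨m, (map_nsmul (EtCore.Hpull f F q) (p ^ m) x).symm.trans ((congrArg _ hx).trans (map_zero _))⟩
  exact eq_zero_of_coprime hp hdeg (finrank_nsmul_eq_zero K hq x h) hx

end Groth.Agent.GalCoh84
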