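import Groth.Agent.GalCoh84.Cohom
import Mathlib.CategoryTheory.Sites.ConstantSheaf
import Mathlib.Algebra.Category.Grp.AB
import Mathlib.Algebra.Category.Grp.Zero

/-!
# Constant sheaves and the sequence `0 → ℤ → ℚ → ℚ/ℤ → 0`
-/

set_option autoImplicit false
set_option backward.isDefEq.respectTransparency.types false
universe u

open CategoryTheory CategoryTheory.Limits CategoryTheory.Abelian AlgebraicGeometry Opposite
open Groth.Agent

namespace Groth.Agent.GalCoh84

variable (X : Scheme.{u})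

instance additive_constantSheaf : (constantSheaf X.smallEtaleTopology AddCommGrpCat.{u + 1}).Additive :=
  have : (EtCore.gsec X).Additive := ⟨fun {_ _ _ _} => rfl⟩
  (EtCore.constAdj X).left_adjoint_additive

theorem map_const_shortExact {S : ShortComplex AddCommGrpCat.{u + 1}} (hS : S.ShortExact) :
    (S.map (constantSheaf X.smallEtaleTopology AddCommGrpCat.{u + 1})).ShortExact := by
  have : PreservesFiniteLimits (Functor.const X.Etaleᵒᵖ : AddCommGrpCat.{u + 1} ⥤ _) :=
    ⟨fun K _ _ => inferInstance⟩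
  have : PreservesFiniteLimits (constantSheaf X.smallEtaleTopology AddCommGrpCat.{u + 1}) :=
    comp_preservesFiniteLimits _ _
  have : PreservesFiniteColimits (constantSheaf X.smallEtaleTopology AddCommGrpCat.{u + 1}) :=
    have : PreservesColimitsOfSize.{0, 0} (constantSheaf X.smallEtaleTopology AddCommGrpCat.{u + 1}) :=
      (EtCore.constAdj X).leftAdjoint_preservesColimits
    PreservesColimitsOfSize.preservesFiniteColimits _
  exact hS.map_of_exact _

/-- The inclusion of the integers in the rationals. -/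
noncomputable def intToRat : AddCommGrpCat.of (ULift.{u + 1} ℤ) ⟶ AddCommGrpCat.of (ULift.{u + 1} ℚ) :=
  AddCommGrpCat.ofHom (AddMonoidHom.mk' (fun a => ULift.up (a.down : ℚ)) fun a b => ULift.ext _ _ (Int.cast_add _ _))

/-- The quotient map to the rationals modulo one. -/
noncomputable def ratToQZ : AddCommGrpCat.of (ULift.{u + 1} ℚ) ⟶
    AddCommGrpCat.of (ULift.{u + 1} (ℚ ⧸ AddSubgroup.zmultiples (1 : ℚ))) :=
  AddCommGrpCat.ofHom (AddMonoidHom.mk' (fun a => ULift.up (a.down : ℚ ⧸ AddSubgroup.zmultiples (1 : ℚ)))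
    fun a b => ULift.ext _ _ rfl)

theorem intToRat_ratToQZ : intToRat.{u} ≫ ratToQZ = 0 := by
  ext a
  exact (QuotientAddGroup.eq_zero_iff _).2 ⟨a.down, zsmul_one _⟩

theorem ratSeq_shortExact : (ShortComplex.mk intToRat.{u} ratToQZ intToRat_ratToQZ).ShortExact where
  exact := (ShortComplex.ab_exact_iff _).2 fun b hb => by
    obtain ⟨n, hn⟩ := (QuotientAddGroup.eq_zero_iff b.down).1 (congrArg ULift.down hb)
    exact ⟨ULift.up n, ULift.ext _ _ (by rw [← hn]; simp [intToRat])⟩
  mono_f := (AddCommGrpCat.mono_iff_injective _).2 fun a b h =>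
    ULift.ext _ _ (Int.cast_injective (congrArg ULift.down h))
  epi_g := (AddCommGrpCat.epi_iff_surjective _).2 fun ⟨q⟩ => by
    obtain ⟨a, rfl⟩ := QuotientAddGroup.mk_surjective q
    exact ⟨ULift.up a, rfl⟩

theorem isIso_nsmul_const_rat (n : ℕ) (hn : 0 < n) : IsIso (n • 𝟙 (EtCoh.const X ℚ)) := by
  let G := constantSheaf X.smallEtaleTopology AddCommGrpCat.{u + 1}
  let A := AddCommGrpCat.of (ULift.{u + 1} ℚ)
  let g : A ⟶ A := AddCommGrpCat.ofHom (AddMonoidHom.mk' (fun a => ULift.up (a.down / n))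
    fun a b => ULift.ext _ _ (add_div _ _ _))
  have h1 : (n • 𝟙 A) ≫ g = 𝟙 A := by
    ext a
    show (n • a : A).down / (n : ℚ) = a.down
    rw [ULift.smul_down, nsmul_eq_mul, mul_div_cancel_left₀ _ (Nat.cast_ne_zero.2 hn.ne')]
  have h2 : g ≫ (n • 𝟙 A) = 𝟙 A := by
    ext a
    show (n • (ULift.up (a.down / (n : ℚ))) : A).down = a.down
    rw [ULift.smul_down, nsmul_eq_mul, mul_div_cancel₀ _ (Nat.cast_ne_zero.2 hn.ne')]
  have : IsIso (n • 𝟙 A) := ⟨g, h1, h2⟩
  have e : G.map (n • 𝟙 A) = n • 𝟙 (EtCoh.const X ℚ) :=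
    (G.map_nsmul).trans (congrArg (n • ·) (G.map_id A))
  exact e ▸ inferInstance

theorem subsingleton_H_const_rat (k : Type u) [Field k] {i : ℕ} (hi : 0 < i) :
    Subsingleton (EtCoh.H (Spec (CommRingCat.of k)) (EtCoh.const (Spec (CommRingCat.of k)) ℚ) i) := by
  refine subsingleton_of_forall_eq 0 fun x => ?_
  obtain ⟨n, hn, h⟩ := isOfFinAddOrder_iff_nsmul_eq_zero.1 (isOfFinAddOrder_H hi x)
  have := isIso_nsmul_const_rat (Spec (CommRingCat.of k)) n hn
  exact eq_zero_of_nsmul_of_isIso n x h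

universe w v'

theorem postcomp_extClass_bijective {C : Type*} [Category.{v'} C] [Abelian C] [HasExt.{w} C] {S : ShortComplex C}
    (hS : S.ShortExact) {A : C} {n m : ℕ} (hn : n + 1 = m) (h₁ : Subsingleton (Ext.{w} A S.X₂ n))
    (h₂ : Subsingleton (Ext.{w} A S.X₂ m)) : Function.Bijective (hS.extClass.postcomp A hn) :=
  ⟨(injective_iff_map_eq_zero _).2 fun β h => eq_zero_of_comp_extClass hS hn β h,
    fun α => exists_comp_extClass hS hn α⟩

/-- The boundary isomorphism of the sequence of constant sheaves. -/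
theorem nonempty_H_int_equiv (k : Type u) [Field k] (j : ℕ) :
    Nonempty (EtCoh.H (Spec (CommRingCat.of k)) (EtCoh.const (Spec (CommRingCat.of k)) ℤ) (j + 2) ≃+
      EtCoh.H (Spec (CommRingCat.of k))
        (EtCoh.const (Spec (CommRingCat.of k)) (ℚ ⧸ AddSubgroup.zmultiples (1 : ℚ))) (j + 1)) :=
  ⟨(AddEquiv.ofBijective _ (postcomp_extClass_bijective (map_const_shortExact _ ratSeq_shortExact) rfl
    (subsingleton_H_const_rat k j.succ_pos) (subsingleton_H_const_rat k (j + 1).succ_pos))).symm⟩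

end Groth.Agent.GalCoh84
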