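import Groth.Agent.GalCoh84.Finite

/-!
# Vanishing for finite p-primary sheaves from vanishing for ℤ/p
-/

set_option autoImplicit false
set_option backward.isDefEq.respectTransparency.types false
universe u

open CategoryTheory CategoryTheory.Limits CategoryTheory.Abelian AlgebraicGeometry Opposite
open Groth.Agent Groth.Agent.Unr55.EtSh

namespace Groth.Agent.GalCoh84

universe w v'

theorem eq_zero_of_id_eq_zero {A : Type*} [Category.{v'} A] [Abelian A] [HasExt.{w} A] {M N : A} {q : ℕ}
    (h : 𝟙 N = 0) (x : Ext.{w} M N q) : x = 0 := by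
  rw [← Ext.comp_mk₀_id x, h, Ext.mk₀_zero, Ext.comp_zero]

theorem nsmul_id_eq_zero_of_epi {A : Type*} [Category.{v'} A] [Preadditive A] {M N : A} (π : M ⟶ N) [Epi π] {n : ℕ}
    (h : n • 𝟙 M = 0) : n • 𝟙 N = 0 := by
  rw [← cancel_epi π, Preadditive.comp_nsmul, Category.comp_id, comp_zero]
  calc n • π = (n • 𝟙 M) ≫ π := by rw [Preadditive.nsmul_comp, Category.id_comp]
    _ = 0 := by rw [h, zero_comp]

theorem eq_zero_of_ses {A : Type*} [Category.{v'} A] [Abelian A] [HasExt.{w} A] {S : ShortComplex A}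
    (hS : S.ShortExact) {M : A} {q : ℕ} (h₁ : ∀ y : Ext.{w} M S.X₁ q, y = 0) (h₃ : ∀ y : Ext.{w} M S.X₃ q, y = 0)
    (x : Ext.{w} M S.X₂ q) : x = 0 := by
  obtain ⟨y, rfl⟩ := Ext.covariant_sequence_exact₂ _ hS x (h₃ _)
  rw [h₁ y, Ext.zero_comp]

variable {p : ℕ} [hp : Fact p.Prime] {q : ℕ}

/-- The induction predicate: classes in finite `p`-primary sheaves with stalk of size at most `c` vanish. -/
def VanishUpTo (p q c : ℕ) (K : Type u) [Field K] : Prop :=
  ∀ (G : EtCoh.Ab (Spec (CommRingCat.of K))) (m : ℕ), p ^ m • 𝟙 G = 0 →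
    ∀ (Ω : Type u) [Field Ω] [IsSepClosed Ω] (η : Spec (CommRingCat.of Ω) ⟶ Spec (CommRingCat.of K)),
      Finite ((EtCoh.stalk η).obj G) → Nat.card ((EtCoh.stalk η).obj G) ≤ c →
      ∀ x : EtCoh.H (Spec (CommRingCat.of K)) G q, x = 0

theorem sect_nsmul_eq_zero {X : Scheme.{u}} {G : EtCoh.Ab X} {n : ℕ} (h : n • 𝟙 G = 0) (U : X.Etale)
    (s : EtCoh.sect G U) : n • s = 0 :=
  congrArg (fun f : G ⟶ G => f.hom.app (op U) s) h

theorem vanish_step {K : Type u} [Field K] {c : ℕ} (ih : VanishUpTo p q c K)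
    (hconst : ∀ y : EtCoh.H (Spec (CommRingCat.of K)) (EtCoh.const (Spec (CommRingCat.of K)) (ZMod p)) q, y = 0)
    {G : EtCoh.Ab (Spec (CommRingCat.of K))} {m : ℕ} (hm : p ^ m • 𝟙 G = 0)
    (s : EtCoh.sect G (EtCoh.top (Spec (CommRingCat.of K)))) (hs : p • s = 0) (hs0 : s ≠ 0)
    {Ω : Type u} [Field Ω] [IsSepClosed Ω] (η : Spec (CommRingCat.of Ω) ⟶ Spec (CommRingCat.of K))
    [Finite ((EtCoh.stalk η).obj G)] (hc : Nat.card ((EtCoh.stalk η).obj G) ≤ c + 1)
    (x : EtCoh.H (Spec (CommRingCat.of K)) G q) : x = 0 := by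
  let T := EtCore.topIsTerminal (Spec (CommRingCat.of K))
  obtain ⟨φ, hφ, σ, hσ⟩ := exists_mono_const G s hs fun V ⟨v⟩ h => hs0 (sect_eq_zero_of_local G s fun z =>
    ⟨V, T.from V, v, Subsingleton.elim _ _, h⟩)
  let S : ShortComplex (EtCoh.Ab (Spec (CommRingCat.of K))) := ShortComplex.mk φ (cokernel.π φ) (cokernel.condition φ)
  have hS : S.ShortExact := { exact := ShortComplex.exact_cokernel φ }
  refine eq_zero_of_ses hS hconst ?_ x
  have hmC : p ^ m • 𝟙 S.X₃ = 0 := nsmul_id_eq_zero_of_epi (cokernel.π φ) hm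
  have : PreservesColimitsOfSize.{0, 0} (EtCoh.stalk η) :=
    (Scheme.pointSmallEtale η).skyscraperSheafAdjunction.leftAdjoint_preservesColimits
  have hsurj : Function.Surjective ((EtCoh.stalk η).map S.g) := by
    have : Epi ((EtCoh.stalk η).map (cokernel.π φ)) := inferInstance
    exact (AddCommGrpCat.epi_iff_surjective _).1 this
  have hfin : Finite ((EtCoh.stalk η).obj S.X₃) := Finite.of_surjective _ hsurj
  refine ih _ m hmC Ω η hfin ?_
  have hle : Nat.card ((EtCoh.stalk η).obj S.X₃) ≤ Nat.card ((EtCoh.stalk η).obj G) :=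
    Nat.card_le_card_of_surjective _ hsurj
  by_contra hlt
  have hcard : Nat.card ((EtCoh.stalk η).obj G) = Nat.card ((EtCoh.stalk η).obj S.X₃) := by omega
  have hbij := (Nat.bijective_iff_surjective_and_card _).2 ⟨hsurj, hcard⟩
  let t : Pt η (EtCoh.top (Spec (CommRingCat.of K))) := mkPt η η (Category.comp_id _)
  have hg : germ η G t s ≠ 0 := fun h => hs0 (germ_injective η G t (h.trans (map_zero _).symm))
  refine hg (hbij.1 (Eq.trans ?_ (map_zero _).symm))
  rw [stalk_map_germ, ← hσ]
  exact (congrArg (germ η S.X₃ t) (congrArg (fun f => f.hom.app (op (EtCoh.top (Spec (CommRingCat.of K)))) σ)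
    (cokernel.condition φ))).trans (map_zero _)

theorem exists_order_p {M : Type*} [AddCommGroup M] {b : M} (hb : b ≠ 0) {m : ℕ} (hm : p ^ m • b = 0) :
    ∃ j, p ^ j • b ≠ 0 ∧ p • p ^ j • b = 0 := by
  induction m with
  | zero => exact absurd (by simpa using hm) hb
  | succ m ih =>
    by_cases h : p ^ m • b = 0
    · exact ih h
    · exact ⟨m, h, by rw [smul_smul, ← pow_succ', hm]⟩

section descent

variable {K : Type u} [Field K] (E N : Type u) [Field E] [Field N] [Algebra K E] [Algebra K N] [Algebra E N]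
  [IsScalarTower K E N] [FiniteDimensional K E] [Algebra.IsSeparable K E] [FiniteDimensional K N]
  [Algebra.IsSeparable K N] [FiniteDimensional E N] [Algebra.IsSeparable E N]

theorem specMap_tower : Spec.map (CommRingCat.ofHom (algebraMap K N)) =
    Spec.map (CommRingCat.ofHom (algebraMap E N)) ≫ Spec.map (CommRingCat.ofHom (algebraMap K E)) := by
  rw [← Spec.map_comp, ← CommRingCat.ofHom_comp, ← IsScalarTower.algebraMap_eq]

/-- A tower as objects of the site of the base. -/
noncomputable def towerIso [Etale (Spec.map (CommRingCat.ofHom (algebraMap K E)))] :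
    (EtShriek.compEtale (Spec.map (CommRingCat.ofHom (algebraMap K E)))).obj (specObj E N) ≅ specObj K N :=
  MorphismProperty.Over.isoMk (Iso.refl _) ((Category.id_comp _).trans (specMap_tower E N))

theorem towerIso_naturality [Etale (Spec.map (CommRingCat.ofHom (algebraMap K E)))] (τ : N →ₐ[E] N) :
    (EtShriek.compEtale (Spec.map (CommRingCat.ofHom (algebraMap K E)))).map (specMap τ) ≫ (towerIso E N).hom =
      (towerIso E N).hom ≫ specMap (τ.restrictScalars K) :=
  MorphismProperty.Over.Hom.ext ((Category.comp_id _).trans (Category.id_comp _).symm)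

theorem exists_descended_section [IsGalois E N] [Etale (Spec.map (CommRingCat.ofHom (algebraMap K E)))]
    (G : EtCoh.Ab (Spec (CommRingCat.of K))) (n : ℕ) (b : EtCoh.sect G (specObj K N)) (hn : n • b = 0) (hb : b ≠ 0)
    (hfix : ∀ τ : N →ₐ[E] N, G.obj.map (specMap (τ.restrictScalars K)).op b = b) :
    ∃ s : EtCoh.sect ((EtCoh.pull (Spec.map (CommRingCat.ofHom (algebraMap K E)))).obj G) (EtCoh.top _),
      n • s = 0 ∧ s ≠ 0 := by
  generalize he : towerIso (K := K) E N = e
  let F' := (EtShriek.restrAlong (Spec.map (CommRingCat.ofHom (algebraMap K E)))).obj G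
  let b₂ : EtCoh.sect F' (specObj E N) := G.obj.map e.hom.op b
  have hinj : Function.Injective (G.obj.map e.hom.op) :=
    Function.LeftInverse.injective (g := G.obj.map e.inv.op) fun z => by
      rw [← ConcreteCategory.comp_apply, ← Functor.map_comp, ← op_comp, e.inv_hom_id, op_id, CategoryTheory.Functor.map_id]
      rfl
  have hfix' : ∀ τ : N →ₐ[E] N, F'.obj.map (specMap τ).op b₂ = b₂ := fun τ => by
    refine ((ConcreteCategory.congr_hom (G.obj.map_comp _ _) b).symm).trans (Eq.trans ?_
      ((ConcreteCategory.congr_hom (G.obj.map_comp (specMap (τ.restrictScalars K)).op e.hom.op) b).trans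
        (congrArg (G.obj.map e.hom.op) (hfix τ))))
    subst he
    exact congrArg (fun k => G.obj.map k b) (congrArg Quiver.Hom.op (towerIso_naturality E N τ))
  obtain ⟨s', hs'⟩ := (descend_galois (N := N) F').2.ge hfix'
  generalize hI : (EtCore45.pullRestrIso (Spec.map (CommRingCat.ofHom (algebraMap K E)))).app G = I
  have hI' : ∀ z, I.hom.hom.app (op (EtCoh.top _)) (I.inv.hom.app (op (EtCoh.top _)) z) = z :=
    fun z => congrArg (fun f : F' ⟶ F' => f.hom.app (op (EtCoh.top _)) z) I.inv_hom_id
  refine ⟨I.inv.hom.app (op (EtCoh.top _)) s', ?_, fun h => hb (hinj ?_)⟩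
  · have h2 : n • s' = 0 := (descend_galois (N := N) F').1 (by
      rw [map_nsmul, map_zero, hs']
      exact (map_nsmul (G.obj.map e.hom.op).hom n b).symm.trans ((congrArg _ hn).trans (map_zero _)))
    exact (map_nsmul (I.inv.hom.app _).hom n s').symm.trans ((congrArg _ h2).trans (map_zero _))
  · have h3 : s' = 0 := (hI' s').symm.trans ((congrArg _ h).trans (map_zero _))
    show b₂ = G.obj.map e.hom.op 0
    rw [← hs', h3, map_zero, map_zero]
    rfl

end descent

variable (C : ∀ (K : Type u) [Field K], Prop)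
  (hC1 : ∀ (K : Type u) [Field K], C K →
    ∀ y : EtCoh.H (Spec (CommRingCat.of K)) (EtCoh.const (Spec (CommRingCat.of K)) (ZMod p)) q, y = 0)
  (hC2 : ∀ (K : Type u) [Field K], C K → ∀ (E : Type u) [Field E] [Algebra K E] [FiniteDimensional K E]
    [Algebra.IsSeparable K E], ¬ p ∣ Module.finrank K E → Module.finrank K E ≠ 1 → C E)
  (hq : 0 < q)

include hC1 hC2 hq

theorem vanishUpTo : ∀ (c : ℕ) (K : Type u) [Field K], C K → VanishUpTo p q c K := by
  intro c
  induction c with
  | zero =>
    intro K _ _ G m _ Ω _ _ η hfin hc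
    exact absurd hc (Nat.not_le.2 Nat.card_pos)
  | succ c ih =>
    intro K _ hK G m hm Ω _ _ η hfin hc x
    classical
    by_cases hG : 𝟙 G = 0
    · exact eq_zero_of_id_eq_zero hG x
    obtain ⟨L, _, _, _, _, s₀, hs₀⟩ := exists_sect_ne_zero hG
    let Ω' := AlgebraicClosure K
    let N := IntermediateField.normalClosure K L Ω'
    have hsep : Algebra.IsSeparable K N := by
      have hle : (N : IntermediateField K Ω') ≤ separableClosure K Ω' := by
        refine iSup_le fun f => ?_
        rintro _ ⟨x, rfl⟩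
        exact mem_separableClosure_iff.2 ((Algebra.IsSeparable.isSeparable K x).map f f.injective)
      exact Algebra.IsSeparable.of_algHom K _ (IntermediateField.inclusion hle)
    have : FiniteDimensional K N := normalClosure.is_finiteDimensional K L Ω'
    have : Normal K N := normalClosure.normal K L Ω'
    have : IsGalois K N := ⟨⟩
    obtain ⟨ι⟩ : Nonempty (L →ₐ[K] N) := ⟨(normalClosure.algHomEquiv K L Ω').symm (IsAlgClosed.lift)⟩
    let M := EtCoh.sect G (specObj K N)
    let b₀ : M := G.obj.map (specMap ι).op s₀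
    have hb₀ : b₀ ≠ 0 := fun h => hs₀ (sect_eq_zero_of_local G s₀ fun z =>
      ⟨specObj K N, specMap ι, (⊥ : PrimeSpectrum N), Subsingleton.elim _ _, h⟩)
    obtain ⟨l, hl⟩ := exists_pt_specObj η N
    let tN : Pt η (specObj K N) := mkPt η l hl
    have : Finite M := Finite.of_injective _ (germ_injective η G tN)
    obtain ⟨P⟩ : Nonempty (Sylow p (N ≃ₐ[K] N)) := inferInstance
    let P' : Subgroup (N ≃ₐ[K] N) := P
    let : MulAction P' M :=
      { smul := fun σ z => G.obj.map (specMap σ.1.toAlgHom).op z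
        one_smul := fun z => by
          show G.obj.map (specMap _).op z = z
          refine Eq.trans ?_ (ConcreteCategory.congr_hom (G.obj.map_id _) z)
          exact congrArg (fun k => G.obj.map k z) (congrArg Quiver.Hom.op
            (MorphismProperty.Over.Hom.ext (Spec.map_id _) : specMap (AlgHom.id K N) = 𝟙 _))
        mul_smul := fun σ τ z => by
          show G.obj.map (specMap _).op z = G.obj.map (specMap _).op (G.obj.map (specMap _).op z)
          refine Eq.trans ?_ (ConcreteCategory.congr_hom (G.obj.map_comp _ _) z)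
          exact congrArg (fun k => G.obj.map k z) (congrArg Quiver.Hom.op
            (specMap_comp τ.1.toAlgHom σ.1.toAlgHom).symm) }
    have hsmul : ∀ (σ : P') (z : M), σ • z = G.obj.map (specMap σ.1.toAlgHom).op z := fun _ _ => rfl
    have hM : ∀ z : M, p ^ m • z = 0 := sect_nsmul_eq_zero hm _
    have hdvd : p ∣ Nat.card M := by
      obtain ⟨j, hj⟩ := (Nat.dvd_prime_pow hp.out).1 (addOrderOf_dvd_of_nsmul_eq_zero (hM b₀))
      rcases j with _ | j
      · exact absurd (AddMonoid.addOrderOf_eq_one_iff.1 (by simpa using hj.2)) hb₀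
      · exact (dvd_pow_self p (Nat.succ_ne_zero j)).trans (hj.2 ▸ addOrderOf_dvd_natCard b₀)
    obtain ⟨b, hb, hb'⟩ := P.isPGroup'.exists_fixed_point_of_prime_dvd_card_of_fixed_point M hdvd
      (a := 0) (fun σ => by rw [hsmul, map_zero])
    obtain ⟨i, hi0, hip⟩ := exists_order_p (fun h => hb' h.symm) (hM b)
    let b₁ : M := p ^ i • b
    have hb₁ : ∀ σ : P', G.obj.map (specMap σ.1.toAlgHom).op b₁ = b₁ := fun σ => by
      simp only [b₁, map_nsmul]
      exact congrArg (p ^ i • ·) (hb σ)
    let E := IntermediateField.fixedField P'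
    have : Algebra.IsSeparable K E := Algebra.isSeparable_tower_bot_of_isSeparable K E N
    have : Algebra.IsSeparable E N := Algebra.isSeparable_tower_top_of_isSeparable K E N
    have hEN : Module.finrank E N = Nat.card P' := IntermediateField.finrank_fixedField_eq_card _
    have hKE : Module.finrank K E = P'.index := by
      have h1 := Module.finrank_mul_finrank K E N
      rw [hEN, ← IsGalois.card_aut_eq_finrank K N, ← P'.index_mul_card] at h1
      exact Nat.eq_of_mul_eq_mul_right Nat.card_pos h1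
    have hdeg : ¬ p ∣ Module.finrank K E := hKE ▸ P.not_dvd_index
    by_cases h1 : Module.finrank K E = 1
    · have htop : P' = ⊤ := Subgroup.index_eq_one.1 (hKE ▸ h1)
      obtain ⟨s, hs⟩ := (descend_galois (N := N) G).2.ge (fun τ => hb₁ ⟨AlgEquiv.ofBijective τ
        (Algebra.IsAlgebraic.algHom_bijective τ), htop ▸ Subgroup.mem_top _⟩)
      refine vanish_step (ih K hK) (hC1 K hK) hm s ?_ ?_ η hc x
      · refine (descend_galois (N := N) G).1 ?_
        rw [map_nsmul, map_zero, hs]
        exact hip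
      · rintro rfl
        exact hi0 (hs.symm.trans (map_zero _))
    let j := Spec.map (CommRingCat.ofHom (algebraMap K E))
    have : Etale j := etale_specMap E
    have : IsGalois E N := IsGalois.tower_top_intermediateField E
    let G' := (EtCoh.pull j).obj G
    obtain ⟨s, hps, hs0⟩ := exists_descended_section E N G p b₁ hip hi0 (fun τ => by
      have hτ : ((AlgEquiv.ofBijective τ (Algebra.IsAlgebraic.algHom_bijective τ)).restrictScalars K) ∈ P' := by
        rw [← IntermediateField.fixingSubgroup_fixedField P', IntermediateField.mem_fixingSubgroup_iff]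
        exact fun e he => τ.commutes ⟨e, he⟩
      exact hb₁ ⟨_, hτ⟩)
    have hm' : p ^ m • 𝟙 G' = 0 := by
      rw [← (EtCoh.pull j).map_id, ← Functor.map_nsmul, hm, Functor.map_zero]
    obtain ⟨l', hl'⟩ := exists_pt_specObj η E
    have hbij := Unr55.EtSh.theta_bijective j l' G
    have hfin' : Finite ((EtCoh.stalk (l' ≫ j)).obj G) := by rw [hl']; exact hfin
    have hc' : Nat.card ((EtCoh.stalk (l' ≫ j)).obj G) ≤ c + 1 := by rw [hl']; exact hc
    have : Finite ((EtCoh.stalk l').obj G') := Finite.of_surjective _ hbij.2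
    rw [Nat.card_congr (Equiv.ofBijective _ hbij)] at hc'
    have := preservesFiniteLimits_pull j
    have hx : EtCore.Hpull j G q x = 0 :=
      vanish_step (ih E (hC2 K hK E hdeg h1)) (hC1 E (hC2 K hK E hdeg h1)) hm' s hps hs0 l' hc' _
    exact eq_zero_of_coprime hp.out hdeg (finrank_nsmul_eq_zero E hq x hx) (nsmul_eq_zero_of_id hm x)

end Groth.Agent.GalCoh84
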