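import Groth.Agent.GalCoh84.Torsion
import Mathlib.GroupTheory.Sylow

/-!
# Transfers between intermediate extensions
-/

set_option autoImplicit false
set_option backward.isDefEq.respectTransparency.types false
universe u

open CategoryTheory CategoryTheory.Limits CategoryTheory.Abelian AlgebraicGeometry Opposite
open Groth.Agent

namespace Groth.Agent.GalCoh84

universe w'' v'''

theorem comp_eq_zero_of_eq_zero {C : Type*} [Category.{v'''} C] [Abelian C] [HasExt.{w''} C] {A B D : C}
    {a b c : ℕ} {x : Ext.{w''} A B a} (y : Ext.{w''} B D b) (hc : a + b = c) (h : x = 0) : x.comp y hc = 0 := by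
  rw [h, Ext.zero_comp]

section transfer

variable {X : Scheme.{u}} (W W' : X.Etale) [hW : PreservesFiniteLimits (EtCoh.pull W.hom)]
  [hW' : PreservesFiniteLimits (EtCoh.pull W'.hom)] (d : ℕ)
  (T : ∀ F : EtCoh.Ab X, EtCoh.sect F W →+ EtCoh.sect F W')
  (hnat : ∀ (F G : EtCoh.Ab X) (φ : F ⟶ G) (s : EtCoh.sect F W),
    φ.hom.app (op W') (T F s) = T G (φ.hom.app (op W) s))
  (hres : ∀ (F : EtCoh.Ab X) (x : EtCoh.sect F (EtCoh.top X)),
    T F (F.obj.map ((EtCore.topIsTerminal X).from W).op x) = d • F.obj.map ((EtCore.topIsTerminal X).from W').op x)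

include hnat hres

/-- A natural transfer of sections carries vanishing on `W` to vanishing on `W'` up to the degree. -/
theorem nsmul_Hpull_eq_zero_of_transfer :
    ∀ (n : ℕ) (F : EtCoh.Ab X) (α : EtCoh.H X F (n + 1)),
      EtCore.Hpull W.hom F (n + 1) α = 0 → d • EtCore.Hpull W'.hom F (n + 1) α = 0 := by
  intro n
  induction n with
  | zero =>
    intro F α hα
    let S := EtCore45.injSeq F
    have hS : S.ShortExact := EtCore45.injSeq_shortExact F
    have hI : Injective S.X₂ := inferInstanceAs (Injective (Injective.under F))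
    have : Subsingleton (EtCoh.H X S.X₂ 1) := Ext.subsingleton_of_injective (EtCoh.const X ℤ) S.X₂ 0
    obtain ⟨β, rfl⟩ := exists_comp_extClass hS rfl α
    obtain ⟨φ, rfl⟩ := Ext.addEquiv₀.symm.surjective β
    obtain ⟨t, ht⟩ := (Hpull_delta_eq_zero_iff W hS φ).1 hα
    have hu : S.g.hom.app (op W') (T S.X₂ t) = S.X₃.obj.map ((EtCore.topIsTerminal X).from W').op
        (EtDesc45.secZ (EtCore.topIsTerminal X) S.X₃ (d • φ)) := by
      rw [hnat, ht, hres, map_nsmul, map_nsmul]
    refine ((map_nsmul (EtCore.Hpull W'.hom _ 1) d _).symm).trans ?_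
    refine (congrArg (EtCore.Hpull W'.hom _ 1) ((nsmul_comp_extClass hS rfl _ _).trans
      (congrArg (fun z => Ext.comp z hS.extClass rfl) (mk₀_nsmul _ φ).symm))).trans ?_
    exact (Hpull_delta_eq_zero_iff W' hS (d • φ)).2 ⟨_, hu⟩
  | succ n ih =>
    intro F α hα
    let S := EtCore45.injSeq F
    have hS : S.ShortExact := EtCore45.injSeq_shortExact F
    have hI : Injective S.X₂ := inferInstanceAs (Injective (Injective.under F))
    have : Subsingleton (EtCoh.H X S.X₂ (n + 2)) := Ext.subsingleton_of_injective (EtCoh.const X ℤ) S.X₂ (n + 1)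
    obtain ⟨β, rfl⟩ := exists_comp_extClass hS rfl α
    have h := ih S.X₃ β (Hpull_eq_zero_of_delta W hS β hα)
    refine (congrArg (d • ·) (Hpull_extClass W'.hom hS rfl β)).trans ?_
    refine (nsmul_comp_extClass _ rfl _ _).trans ?_
    exact comp_eq_zero_of_eq_zero _ _ h

end transfer

variable {K : Type u} [Field K] (E N : Type u) [Field E] [Field N] [Algebra K E] [Algebra K N] [Algebra E N]
  [IsScalarTower K E N] [FiniteDimensional K E] [Algebra.IsSeparable K E] [FiniteDimensional K N]
  [Algebra.IsSeparable K N] [FiniteDimensional E N] [Algebra.IsSeparable E N]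

/-- The relative trace between two finite separable extensions. -/
theorem exists_trace_rel :
    ∃ T : ∀ F : EtCoh.Ab (Spec (CommRingCat.of K)), EtCoh.sect F (specObj K N) →+ EtCoh.sect F (specObj K E),
      (∀ (F G : EtCoh.Ab (Spec (CommRingCat.of K))) (φ : F ⟶ G) (s : EtCoh.sect F (specObj K N)),
        φ.hom.app (op (specObj K E)) (T F s) = T G (φ.hom.app (op (specObj K N)) s)) ∧
      ∀ (F : EtCoh.Ab (Spec (CommRingCat.of K))) (x : EtCoh.sect F (EtCoh.top _)),
        T F (F.obj.map ((EtCore.topIsTerminal _).from (specObj K N)).op x) =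
          Module.finrank E N • F.obj.map ((EtCore.topIsTerminal _).from (specObj K E)).op x := by
  let j := Spec.map (CommRingCat.ofHom (algebraMap K E))
  have : Etale j := etale_specMap E
  obtain ⟨tr, hnat, hdeg⟩ := exists_trace (K := E) N
  have eN : (EtShriek.compEtale j).obj (specObj E N) ≅ specObj K N :=
    MorphismProperty.Over.isoMk (Iso.refl _) ((Category.id_comp _).trans
      ((congrArg (fun r => Spec.map (CommRingCat.ofHom r)) (IsScalarTower.algebraMap_eq K E N)).trans
        ((congrArg Spec.map (CommRingCat.ofHom_comp _ _)).trans (Spec.map_comp _ _))))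
  have eE : (EtShriek.compEtale j).obj (EtCoh.top (Spec (CommRingCat.of E))) ≅ specObj K E :=
    MorphismProperty.Over.isoMk (Iso.refl _) ((Category.id_comp _).trans (Category.id_comp _).symm)
  let T : ∀ F : EtCoh.Ab (Spec (CommRingCat.of K)), EtCoh.sect F (specObj K N) →+ EtCoh.sect F (specObj K E) :=
    fun F => ((F.obj.map eE.inv.op).hom.comp (tr ((EtShriek.restrAlong j).obj F))).comp (F.obj.map eN.hom.op).hom
  refine ⟨T, fun F G φ s => ?_, fun F x => ?_⟩
  · refine (NatTrans.naturality_apply φ.hom eE.inv.op _).trans (congrArg (G.obj.map eE.inv.op) ?_)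
    refine (hnat _ _ ((EtShriek.restrAlong j).map φ) _).trans (congrArg (tr _) ?_)
    exact NatTrans.naturality_apply φ.hom eN.hom.op s
  · let F' := (EtShriek.restrAlong j).obj F
    let T' := EtCore.topIsTerminal (Spec (CommRingCat.of K))
    let y : EtCoh.sect F' (EtCoh.top _) := F.obj.map (T'.from ((EtShriek.compEtale j).obj (EtCoh.top _))).op x
    have e1 : F.obj.map eN.hom.op (F.obj.map (T'.from (specObj K N)).op x) =
        F'.obj.map ((EtCore.topIsTerminal _).from (specObj E N)).op y := by
      refine ((ConcreteCategory.congr_hom (F.obj.map_comp _ _) x).symm).trans (Eq.trans ?_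
        (ConcreteCategory.congr_hom (F.obj.map_comp _ _) x))
      exact congrArg (fun k => F.obj.map k x) (congrArg Quiver.Hom.op (T'.hom_ext
        (eN.hom ≫ T'.from (specObj K N))
        ((EtShriek.compEtale j).map ((EtCore.topIsTerminal _).from (specObj E N)) ≫ T'.from _)))
    refine (congrArg (fun z => F.obj.map eE.inv.op (tr F' z)) e1).trans ?_
    refine (congrArg (F.obj.map eE.inv.op) (hdeg F' y)).trans ?_
    refine (map_nsmul (F.obj.map eE.inv.op).hom _ _).trans (congrArg (Module.finrank E N • ·) ?_)
    refine (ConcreteCategory.congr_hom (F.obj.map_comp _ _) x).symm.trans ?_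
    exact congrArg (fun k => F.obj.map k x) (congrArg Quiver.Hom.op (T'.hom_ext
      (eE.inv ≫ T'.from _) (T'.from (specObj K E))))

/-- If `p` does not divide the order of a class killed by a finite separable extension, it is killed by
one of degree prime to `p`. -/
theorem exists_ext_degree_coprime (L : Type u) [Field L] [Algebra K L] [FiniteDimensional K L]
    [Algebra.IsSeparable K L] [hL : PreservesFiniteLimits (EtCoh.pull (Spec.map (CommRingCat.ofHom (algebraMap K L))))]
    {F : EtCoh.Ab (Spec (CommRingCat.of K))} {i : ℕ} (hi : 0 < i) (α : EtCoh.H (Spec (CommRingCat.of K)) F i)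
    (hα : EtCore.Hpull (Spec.map (CommRingCat.ofHom (algebraMap K L))) F i α = 0) {p : ℕ} (hp : p.Prime)
    (hpα : ¬ p ∣ addOrderOf α) :
    ∃ (L' : Type u) (_ : Field L') (_ : Algebra K L') (_ : FiniteDimensional K L') (_ : Algebra.IsSeparable K L'),
      ¬ p ∣ Module.finrank K L' ∧
        ∀ [PreservesFiniteLimits (EtCoh.pull (Spec.map (CommRingCat.ofHom (algebraMap K L'))))],
          EtCore.Hpull (Spec.map (CommRingCat.ofHom (algebraMap K L'))) F i α = 0 := by
  classical
  obtain ⟨n, rfl⟩ := Nat.exists_eq_add_one.2 hi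
  let Ω := AlgebraicClosure K
  let N := IntermediateField.normalClosure K L Ω
  have hsep : Algebra.IsSeparable K N := by
    have hle : (N : IntermediateField K Ω) ≤ separableClosure K Ω := by
      refine iSup_le fun f => ?_
      rintro _ ⟨x, rfl⟩
      exact mem_separableClosure_iff.2 ((Algebra.IsSeparable.isSeparable K x).map f f.injective)
    exact Algebra.IsSeparable.of_algHom K _ (IntermediateField.inclusion hle)
  have : FiniteDimensional K N := normalClosure.is_finiteDimensional K L Ω
  have : Normal K N := normalClosure.normal K L Ω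
  have : IsGalois K N := ⟨⟩
  have := Fact.mk hp
  obtain ⟨P⟩ : Nonempty (Sylow p (N ≃ₐ[K] N)) := inferInstance
  let E := IntermediateField.fixedField (P : Subgroup (N ≃ₐ[K] N))
  have : Algebra.IsSeparable K E := Algebra.isSeparable_tower_bot_of_isSeparable K E N
  have : Algebra.IsSeparable E N := Algebra.isSeparable_tower_top_of_isSeparable K E N
  have hEN : Module.finrank E N = Nat.card (P : Subgroup (N ≃ₐ[K] N)) := IntermediateField.finrank_fixedField_eq_card _
  have hKE : Module.finrank K E = (P : Subgroup (N ≃ₐ[K] N)).index := by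
    have h1 := Module.finrank_mul_finrank K E N
    rw [hEN, ← IsGalois.card_aut_eq_finrank K N, ← (P : Subgroup (N ≃ₐ[K] N)).index_mul_card] at h1
    exact Nat.eq_of_mul_eq_mul_right Nat.card_pos h1
  refine ⟨E, inferInstance, inferInstance, inferInstance, inferInstance, hKE ▸ P.not_dvd_index, ?_⟩
  intro hE
  have : PreservesFiniteLimits (EtCoh.pull (specObj K L).hom) := hL
  have : PreservesFiniteLimits (EtCoh.pull (specObj K E).hom) := hE
  have hN := Unr55.EtSh.preservesFiniteLimits_pull (specObj K N).hom
  obtain ⟨σ⟩ : Nonempty (L →ₐ[K] N) := ⟨(normalClosure.algHomEquiv K L Ω).symm (IsAlgClosed.lift)⟩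
  let T₀ := fun G : EtCoh.Ab (Spec (CommRingCat.of K)) => (G.obj.map (specMap σ).op).hom
  have h1 : 1 • EtCore.Hpull (specObj K N).hom F (n + 1) α = 0 :=
    nsmul_Hpull_eq_zero_of_transfer (specObj K L) (specObj K N) 1 T₀
      (fun G G' φ s => NatTrans.naturality_apply φ.hom (specMap σ).op s)
      (fun G x => by
        rw [one_smul]
        refine (ConcreteCategory.congr_hom (G.obj.map_comp _ _) x).symm.trans ?_
        exact congrArg (fun k => G.obj.map k x) (congrArg Quiver.Hom.op ((EtCore.topIsTerminal _).hom_ext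
          (specMap σ ≫ (EtCore.topIsTerminal _).from _) ((EtCore.topIsTerminal _).from _)))) n F α hα
  rw [one_smul] at h1
  obtain ⟨T, hnat, hdeg⟩ := exists_trace_rel (K := K) E N
  have h2 := nsmul_Hpull_eq_zero_of_transfer (specObj K N) (specObj K E) (Module.finrank E N) T hnat hdeg n F α h1
  obtain ⟨a, ha⟩ := P.isPGroup'.exists_card_eq
  rw [hEN, ha] at h2
  refine eq_zero_of_coprime hp hpα ?_ h2
  exact (map_nsmul (EtCore.Hpull (specObj K E).hom F (n + 1)) (addOrderOf α) α).symm.trans
    ((congrArg _ (addOrderOf_nsmul_eq_zero α)).trans (map_zero _))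

end Groth.Agent.GalCoh84
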