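import Groth.Agent.GalCoh84.CyclicTate
import Groth.Agent.GalCoh84.Transfer
import Mathlib.RingTheory.Norm.Basic
import Mathlib.FieldTheory.Galois.Basic

/-!
# The relative Brauer group of a cyclic extension and norms
-/

set_option autoImplicit false
set_option backward.isDefEq.respectTransparency.types false
universe u

open CategoryTheory CategoryTheory.Limits CategoryTheory.Abelian AlgebraicGeometry Opposite
open Groth.Agent

namespace Groth.Agent.GalCoh84

variable {K : Type u} [Field K] {L : Type u} [Field L] [Algebra K L] [FiniteDimensional K L]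
  [Algebra.IsSeparable K L]

/-- Restriction of the multiplicative group to a finite separable extension. -/
noncomputable def gmRestrIso (j : Spec (CommRingCat.of L) ⟶ Spec (CommRingCat.of K)) [Etale j] [EtShriek.JCont j] :
    (EtShriek.restrAlong j).obj (EtCoh.Gm (Spec (CommRingCat.of K))) ≅ EtCoh.Gm (Spec (CommRingCat.of L)) :=
  Iso.refl _

theorem eq_zero_of_iso {C : Type*} [Category C] [Abelian C] [HasExt.{u + 1} C] {A B D : C} (e : B ≅ D) {n : ℕ}
    (h : ∀ y : Ext.{u + 1} A D n, y = 0) (x : Ext.{u + 1} A B n) : x = 0 := by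
  have h1 := h (x.comp (Ext.mk₀ e.hom) (add_zero n))
  have h2 := congrArg (fun z => z.comp (Ext.mk₀ e.inv) (add_zero n)) h1
  simpa only [Ext.comp_assoc_of_second_deg_zero, Ext.mk₀_comp_mk₀, Iso.hom_inv_id, Ext.comp_mk₀_id,
    Ext.zero_comp] using h2

variable (L) in
/-- Hilbert 90 over an extension: epimorphisms with kernel `G_m` are surjective on sections over it. -/
theorem sect_surjective {S : ShortComplex (EtCoh.Ab (Spec (CommRingCat.of K)))} (hS : S.ShortExact)
    (e : S.X₁ = EtCoh.Gm (Spec (CommRingCat.of K))) (s : EtCoh.sect S.X₃ (specObj K L)) :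
    ∃ t, S.g.hom.app (op (specObj K L)) t = s := by
  let j := Spec.map (CommRingCat.ofHom (algebraMap K L))
  have : Etale j := etale_specMap L
  let R := EtShriek.restrAlong j
  have := Unr55.EtSh.preservesFiniteLimits_pull j
  have : PreservesColimitsOfSize.{0, 0} (EtCoh.pull j) := (EtCoh.pullPushAdj j).leftAdjoint_preservesColimits
  have : PreservesFiniteColimits (EtCoh.pull j) := PreservesColimitsOfSize.preservesFiniteColimits.{0, 0} _
  have : PreservesFiniteLimits R := preservesFiniteLimits_of_natIso (EtCore45.pullRestrIso j)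
  have : PreservesFiniteColimits R := preservesFiniteColimits_of_natIso (EtCore45.pullRestrIso j)
  have hS' : (S.map R).ShortExact := hS.map_of_exact R
  have eL : (EtShriek.compEtale j).obj (EtCoh.top (Spec (CommRingCat.of L))) ≅ specObj K L :=
    MorphismProperty.Over.isoMk (Iso.refl _) ((Category.id_comp _).trans (Category.id_comp _).symm)
  let T := EtCore.topIsTerminal (Spec (CommRingCat.of L))
  obtain ⟨φ, hφ⟩ := (EtDesc45.secZ T (R.obj S.X₃)).surjective (S.X₃.obj.map eL.hom.op s)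
  obtain ⟨ψ, hψ⟩ := (delta_mk₀_eq_zero_iff hS' φ).1
    (eq_zero_of_iso ((eqToIso (congrArg R.obj e)).trans (gmRestrIso j)) (fun y => H1_Gm_eq_zero y) _)
  refine ⟨S.X₂.obj.map eL.inv.op (EtDesc45.secZ T (R.obj S.X₂) ψ), ?_⟩
  refine (NatTrans.naturality_apply S.g.hom eL.inv.op _).trans ?_
  have h1 : (R.map S.g).hom.app (op (EtCoh.top _)) (EtDesc45.secZ T (R.obj S.X₂) ψ) = S.X₃.obj.map eL.hom.op s := by
    rw [← hφ, ← hψ]
    exact (EtDesc45.secZ_comp T ψ (R.map S.g)).symm
  refine (congrArg (S.X₃.obj.map eL.inv.op) h1).trans ?_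
  refine (ConcreteCategory.congr_hom (S.X₃.obj.map_comp _ _) s).symm.trans ?_
  rw [← op_comp, eL.inv_hom_id, op_id, CategoryTheory.Functor.map_id]
  rfl

/-- The section of `G_m` over the extension given by a unit. -/
noncomputable def unitSect (x : Lˣ) : EtCoh.sect (EtCoh.Gm (Spec (CommRingCat.of K))) (specObj K L) :=
  (unitsIso (K := K) L).symm (Additive.ofMul x)

theorem val_unitSect (x : Lˣ) : (((unitsIso (K := K) L) (unitSect x)).toMul : Lˣ) = x := by
  rw [unitSect, AddEquiv.apply_symm_apply, toMul_ofMul]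

theorem act_val (g : L ≃ₐ[K] L) (a : EtCoh.sect (EtCoh.Gm (Spec (CommRingCat.of K))) (specObj K L)) :
    (((unitsIso (K := K) L) (act _ g a)).toMul : L) = g (((unitsIso (K := K) L) a).toMul : Lˣ) :=
  unitsIso_map L g.toAlgHom a

theorem nrm_val [IsGalois K L] (a : EtCoh.sect (EtCoh.Gm (Spec (CommRingCat.of K))) (specObj K L)) :
    (((unitsIso (K := K) L) (nrm _ a)).toMul : L) = algebraMap K L (Algebra.norm K (((unitsIso (K := K) L) a).toMul : L)) := by
  rw [Algebra.norm_eq_prod_automorphisms, nrm, AddMonoidHom.finsetSum_apply, map_sum, toMul_sum, Units.coe_prod]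
  exact Finset.prod_congr rfl fun g _ => act_val g a

theorem fixed_of_generator {σ : L ≃ₐ[K] L} (hσ : ∀ g, g ∈ Subgroup.zpowers σ) {F : EtCoh.Ab (Spec (CommRingCat.of K))}
    (x : EtCoh.sect F (specObj K L)) (hx : act F σ x = x) (g : L ≃ₐ[K] L) : act F g x = x := by
  let H : Subgroup (L ≃ₐ[K] L) :=
    { carrier := {g | act F g x = x}
      one_mem' := by
        show F.obj.map (specMap (1 : L ≃ₐ[K] L).toAlgHom).op x = x
        rw [show specMap ((1 : L ≃ₐ[K] L).toAlgHom) = 𝟙 (specObj K L) from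
          MorphismProperty.Over.Hom.ext (Spec.map_id _), op_id, CategoryTheory.Functor.map_id]
        rfl
      mul_mem' := fun {a b} (ha : act F a x = x) (hb : act F b x = x) => by
        show act F (a * b) x = x
        rw [act_mul, hb, ha]
      inv_mem' := fun {a} (ha : act F a x = x) => by
        show act F a⁻¹ x = x
        conv_lhs => rw [← ha]
        rw [← act_mul, inv_mul_cancel]
        show F.obj.map (specMap (1 : L ≃ₐ[K] L).toAlgHom).op x = x
        rw [show specMap ((1 : L ≃ₐ[K] L).toAlgHom) = 𝟙 (specObj K L) from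
          MorphismProperty.Over.Hom.ext (Spec.map_id _), op_id, CategoryTheory.Functor.map_id]
        rfl }
  exact (Subgroup.zpowers_le.2 (show σ ∈ H from hx)) (hσ g)

theorem exists_descend [IsGalois K L] {σ : L ≃ₐ[K] L} (hσ : ∀ g, g ∈ Subgroup.zpowers σ)
    {F : EtCoh.Ab (Spec (CommRingCat.of K))} (x : EtCoh.sect F (specObj K L)) (hx : act F σ x = x) :
    ∃ φ : EtCoh.const (Spec (CommRingCat.of K)) ℤ ⟶ F,
      F.obj.map ((EtCore.topIsTerminal _).from (specObj K L)).op (EtDesc45.secZ (EtCore.topIsTerminal _) F φ) = x := by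
  obtain ⟨u, hu⟩ := (descend_galois (N := L) F).2.ge (show x ∈ {s : EtCoh.sect F (specObj K L) |
      ∀ τ : L →ₐ[K] L, F.obj.map (specMap τ).op s = s} from fun τ => by
    exact fixed_of_generator hσ x hx (AlgEquiv.ofBijective τ (Algebra.IsAlgebraic.algHom_bijective τ)))
  obtain ⟨φ, rfl⟩ := (EtDesc45.secZ (EtCore.topIsTerminal _) F).surjective u
  exact ⟨φ, hu⟩

theorem act_restr (F : EtCoh.Ab (Spec (CommRingCat.of K))) (x : EtCoh.sect F (EtCoh.top _)) (g : L ≃ₐ[K] L) :
    act F g (F.obj.map ((EtCore.topIsTerminal _).from (specObj K L)).op x) =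
      F.obj.map ((EtCore.topIsTerminal _).from (specObj K L)).op x := by
  refine (ConcreteCategory.congr_hom (F.obj.map_comp _ _) x).symm.trans ?_
  exact congrArg (fun k => F.obj.map k x) (congrArg Quiver.Hom.op
    ((EtCore.topIsTerminal _).hom_ext (specMap g.toAlgHom ≫ (EtCore.topIsTerminal _).from _) _))

variable (L) in
/-- If norms from a cyclic extension are surjective, no nonzero Brauer class is split by it. -/
theorem eq_zero_of_norm_surjective [IsGalois K L] [IsCyclic (L ≃ₐ[K] L)]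
    [PreservesFiniteLimits (EtCoh.pull (Spec.map (CommRingCat.ofHom (algebraMap K L))))]
    (hN : ∀ x : K, x ≠ 0 → ∃ y : L, Algebra.norm K y = x)
    (x : EtCoh.H (Spec (CommRingCat.of K)) (EtCoh.Gm (Spec (CommRingCat.of K))) 2)
    (hx : EtCore.Hpull (Spec.map (CommRingCat.ofHom (algebraMap K L))) (EtCoh.Gm (Spec (CommRingCat.of K))) 2 x = 0) :
    x = 0 := by
  obtain ⟨σ, hσ⟩ := IsCyclic.exists_generator (α := L ≃ₐ[K] L)
  let X := Spec (CommRingCat.of K)
  let T := EtCore.topIsTerminal X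
  let W := specObj K L
  let S := EtCore45.injSeq (EtCoh.Gm X)
  have hS : S.ShortExact := EtCore45.injSeq_shortExact _
  have hI : Injective S.X₂ := inferInstanceAs (Injective (Injective.under (EtCoh.Gm X)))
  have : Subsingleton (EtCoh.H X S.X₂ 2) := Ext.subsingleton_of_injective (EtCoh.const X ℤ) S.X₂ 1
  obtain ⟨β, rfl⟩ := exists_comp_extClass hS (rfl : 1 + 1 = 2) x
  have : PreservesFiniteLimits (EtCoh.pull W.hom) :=
    inferInstanceAs (PreservesFiniteLimits (EtCoh.pull (Spec.map (CommRingCat.ofHom (algebraMap K L)))))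
  have hβ : EtCore.Hpull W.hom S.X₃ 1 β = 0 := Hpull_eq_zero_of_delta W hS β hx
  suffices h0 : β = 0 from comp_eq_zero_of_eq_zero hS.extClass (rfl : 1 + 1 = 2) h0
  let S' := EtCore45.injSeq S.X₃
  have hS' : S'.ShortExact := EtCore45.injSeq_shortExact _
  have hJ : Injective S'.X₂ := inferInstanceAs (Injective (Injective.under S.X₃))
  have : Subsingleton (EtCoh.H X S'.X₂ 1) := Ext.subsingleton_of_injective (EtCoh.const X ℤ) S'.X₂ 0
  obtain ⟨β₀, rfl⟩ := exists_comp_extClass hS' (rfl : 0 + 1 = 1) β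
  obtain ⟨φ, rfl⟩ := Ext.addEquiv₀.symm.surjective β₀
  obtain ⟨t, ht⟩ := (Hpull_delta_eq_zero_iff W hS' φ).1 hβ
  obtain ⟨hinj, hex⟩ := sect_exact hS W
  obtain ⟨hinj', hex'⟩ := sect_exact hS' W
  obtain ⟨c, hc⟩ := hex' (act S'.X₂ σ t - t) (by
    rw [map_sub, act_nat S'.g, ht, sub_eq_zero]
    exact act_restr S'.X₃ _ σ)
  have hc0 : nrm S.X₃ c = 0 := hinj' (by
    refine (nrm_nat S'.f c).trans ?_
    rw [hc, nrm_sub_act, map_zero])
  obtain ⟨d, hd⟩ := sect_surjective L hS rfl c
  obtain ⟨a, ha⟩ := hex (nrm S.X₂ d) (by rw [nrm_nat S.g, hd, hc0])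
  have hfix : act (EtCoh.Gm X) σ a = a := hinj (by
    refine (act_nat S.f σ a).trans ?_
    rw [ha, act_nrm])
  let u : Lˣ := ((unitsIso (K := K) L) a).toMul
  obtain ⟨z, hz⟩ : ∃ z : K, algebraMap K L z = (u : L) := (IsGalois.mem_bot_iff_fixed (u : L)).2 fun g =>
    (act_val g a).symm.trans (congrArg (fun b => (((unitsIso (K := K) L) b).toMul : L))
      (fixed_of_generator hσ a hfix g))
  have hz0 : z ≠ 0 := fun h => u.ne_zero (by rw [← hz, h, map_zero])
  obtain ⟨y, hy⟩ := hN z hz0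
  have hy0 : y ≠ 0 := fun h => hz0 (by rw [← hy, h, Algebra.norm_zero])
  let b := unitSect (K := K) (Units.mk0 y hy0)
  have hab : nrm (EtCoh.Gm X) b = a := by
    apply (unitsIso (K := K) L).injective
    refine Additive.toMul.injective (Units.ext ?_)
    rw [nrm_val, val_unitSect]
    show algebraMap K L (Algebra.norm K y) = (u : L)
    rw [hy, hz]
  obtain ⟨e, he⟩ := exists_act_sub_eq hσ (d - S.f.hom.app (op W) b) (by
    rw [map_sub, ← nrm_nat S.f, hab, ha, sub_self])
  have hSfg : S.g.hom.app (op W) (S.f.hom.app (op W) b) = 0 :=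
    ConcreteCategory.congr_hom (NatTrans.congr_app (congrArg (fun f => f.hom) S.zero) (op W)) b
  let t' := t - S'.f.hom.app (op W) (S.g.hom.app (op W) e)
  have ht' : act S'.X₂ σ t' = t' := by
    have h1 : act S.X₃ σ (S.g.hom.app (op W) e) = S.g.hom.app (op W) e + c := by
      rw [← sub_eq_iff_eq_add', ← act_nat S.g, ← map_sub, he, map_sub, hSfg, sub_zero, hd]
    show act S'.X₂ σ (t - _) = _
    rw [map_sub, ← act_nat S'.f, h1, map_add, hc]
    simp only [t']
    abel
  obtain ⟨ψ, hψ⟩ := exists_descend hσ t' ht'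
  refine (delta_mk₀_eq_zero_iff hS' φ).2 ⟨ψ, (EtDesc45.secZ T S'.X₃).injective ((descend_galois (N := L) S'.X₃).1 ?_)⟩
  rw [EtDesc45.secZ_comp, ← NatTrans.naturality_apply S'.g.hom, hψ, ← ht, map_sub, sub_eq_self]
  exact ConcreteCategory.congr_hom (NatTrans.congr_app (congrArg (fun f => f.hom) S'.zero) (op W)) _

variable (L) in
/-- If no nonzero Brauer class is killed by the degree, norms from a cyclic extension are surjective. -/
theorem norm_surjective_of_eq_zero [IsGalois K L] [IsCyclic (L ≃ₐ[K] L)]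
    [PreservesFiniteLimits (EtCoh.pull (Spec.map (CommRingCat.ofHom (algebraMap K L))))]
    (hBr : ∀ x : EtCoh.H (Spec (CommRingCat.of K)) (EtCoh.Gm (Spec (CommRingCat.of K))) 2,
      Module.finrank K L • x = 0 → x = 0)
    (x : K) (hx : x ≠ 0) : ∃ y : L, Algebra.norm K y = x := by
  obtain ⟨σ, hσ⟩ := IsCyclic.exists_generator (α := L ≃ₐ[K] L)
  let X := Spec (CommRingCat.of K)
  let T := EtCore.topIsTerminal X
  let W := specObj K L
  let S := EtCore45.injSeq (EtCoh.Gm X)
  have hS : S.ShortExact := EtCore45.injSeq_shortExact _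
  have hI : Injective S.X₂ := inferInstanceAs (Injective (Injective.under (EtCoh.Gm X)))
  let S' := EtCore45.injSeq S.X₃
  have hS' : S'.ShortExact := EtCore45.injSeq_shortExact _
  have hJ : Injective S'.X₂ := inferInstanceAs (Injective (Injective.under S.X₃))
  have : Subsingleton (EtCoh.H X S.X₂ 1) := Ext.subsingleton_of_injective (EtCoh.const X ℤ) S.X₂ 0
  obtain ⟨hinj, hex⟩ := sect_exact hS W
  obtain ⟨hinj', hex'⟩ := sect_exact hS' W
  have hSfg : ∀ a, S.g.hom.app (op W) (S.f.hom.app (op W) a) = 0 := fun a =>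
    ConcreteCategory.congr_hom (NatTrans.congr_app (congrArg (fun f => f.hom) S.zero) (op W)) a
  have hSfg' : ∀ a, S'.g.hom.app (op W) (S'.f.hom.app (op W) a) = 0 := fun a =>
    ConcreteCategory.congr_hom (NatTrans.congr_app (congrArg (fun f => f.hom) S'.zero) (op W)) a
  let u : Lˣ := Units.mk0 (algebraMap K L x) ((map_ne_zero _).2 hx)
  let a := unitSect (K := K) u
  have hfix : act (EtCoh.Gm X) σ a = a := by
    apply (unitsIso (K := K) L).injective
    refine Additive.toMul.injective (Units.ext ?_)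
    rw [act_val, val_unitSect]
    exact σ.commutes x
  obtain ⟨d, hd⟩ := exists_nrm_eq hσ (S.f.hom.app (op W) a) (by rw [← act_nat S.f, hfix])
  obtain ⟨t, ht⟩ := exists_act_sub_eq hσ (S'.f.hom.app (op W) (S.g.hom.app (op W) d)) (by
    rw [← nrm_nat S'.f, ← nrm_nat S.g, hd, hSfg, map_zero])
  obtain ⟨φ, hφ⟩ := exists_descend hσ (S'.g.hom.app (op W) t) (by
    rw [← act_nat S'.g, ← sub_eq_zero, ← map_sub, ht, hSfg'])
  have : PreservesFiniteLimits (EtCoh.pull W.hom) :=
    inferInstanceAs (PreservesFiniteLimits (EtCoh.pull (Spec.map (CommRingCat.ofHom (algebraMap K L)))))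
  let β := (Ext.mk₀ φ).comp hS'.extClass (zero_add 1)
  have hβ : EtCore.Hpull W.hom S.X₃ 1 β = 0 := (Hpull_delta_eq_zero_iff W hS' φ).2 ⟨t, hφ.symm⟩
  have hx2 : EtCore.Hpull W.hom (EtCoh.Gm X) 2 (β.comp hS.extClass (rfl : 1 + 1 = 2)) = 0 :=
    (Hpull_extClass W.hom hS rfl β).trans (comp_eq_zero_of_eq_zero _ _ hβ)
  have hβ0 : β = 0 := eq_zero_of_comp_extClass hS rfl β
    (hBr _ (finrank_nsmul_eq_zero L (Nat.succ_pos 1) _ hx2))
  obtain ⟨ψ, hψ⟩ := (delta_mk₀_eq_zero_iff hS' φ).1 hβ0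
  let t₀ := S'.X₂.obj.map (T.from W).op (EtDesc45.secZ T S'.X₂ ψ)
  obtain ⟨q, hq⟩ := hex' (t - t₀) (by
    rw [map_sub, sub_eq_zero, ← hφ, NatTrans.naturality_apply S'.g.hom, ← EtDesc45.secZ_comp, hψ])
  have hqc : act S.X₃ σ q - q = S.g.hom.app (op W) d := hinj' (by
    rw [map_sub, act_nat S'.f, hq, map_sub, ← ht, act_restr]
    abel)
  obtain ⟨q', hq'⟩ := sect_surjective L hS rfl q
  obtain ⟨b, hb⟩ := hex (d - (act S.X₂ σ q' - q')) (by
    rw [map_sub, map_sub, act_nat S.g, hq', hqc, sub_self])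
  have hab : nrm (EtCoh.Gm X) b = a := hinj (by
    rw [nrm_nat S.f, hb, map_sub, nrm_sub_act, sub_zero, hd])
  refine ⟨(((unitsIso (K := K) L) b).toMul : L), (algebraMap K L).injective ?_⟩
  rw [← nrm_val, hab, val_unitSect]
  rfl

end Groth.Agent.GalCoh84
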