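import Groth.Agent.GalCoh84.Hilbert90
import Mathlib.Algebra.Category.Grp.Abelian
import Mathlib.CategoryTheory.Abelian.FunctorCategory

/-!
# Sections of injective sheaves over a cyclic extension are cohomologically trivial
-/

set_option autoImplicit false
set_option backward.isDefEq.respectTransparency.types false
universe u w

open CategoryTheory CategoryTheory.Limits AlgebraicGeometry Opposite
open Groth.Agent

namespace Groth.Agent.GalCoh84

section combinatorics

variable {G : Type*} [Group G] [Fintype G] {T : Type w} [MulAction G T] {σ : G}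

/-- An element of a free permutation module fixed by the group is a norm. -/
theorem exists_sum_eq_of_fixed (hfree : ∀ (g : G) (t : T), g • t = t → g = 1) (hσ : ∀ g, g ∈ Subgroup.zpowers σ)
    (f : T →₀ ℤ) (hf : Finsupp.mapDomain (fun t => σ • t) f = f) :
    ∃ h : T →₀ ℤ, ∑ g : G, Finsupp.mapDomain (fun t => g • t) h = f := by
  classical
  let H : Subgroup G :=
    { carrier := {g | ∀ t, f (g • t) = f t}
      one_mem' := fun t => by rw [one_smul]
      mul_mem' := fun {a b} ha hb t => by rw [mul_smul, ha, hb]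
      inv_mem' := fun {a} ha t => by
        have := ha (a⁻¹ • t)
        rwa [smul_inv_smul, eq_comm] at this }
  have hσH : σ ∈ H := fun t => by
    have := Finsupp.mapDomain_apply (f := fun t => σ • t) (MulAction.injective σ) f t
    rwa [hf] at this
  have hinv : ∀ g t, f (g • t) = f t := fun g => (Subgroup.zpowers_le.2 hσH) (hσ g)
  let r : T → T := fun t => (Quotient.mk (MulAction.orbitRel G T) t).out
  refine ⟨f.filter (fun t => r t = t), Finsupp.ext fun x => ?_⟩
  obtain ⟨g₀, hg₀⟩ : ∃ g : G, g • x = r x := by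
    have := Quotient.mk_out (s := MulAction.orbitRel G T) x
    exact MulAction.mem_orbit_iff.1 this
  rw [Finsupp.finsetSum_apply]
  have e : ∀ g : G, Finsupp.mapDomain (fun t => g • t) (f.filter (fun t => r t = t)) x =
      f.filter (fun t => r t = t) (g⁻¹ • x) := fun g => by
    conv_lhs => rw [← smul_inv_smul g x]
    exact Finsupp.mapDomain_apply (MulAction.injective g) _ _
  rw [Finset.sum_eq_single g₀⁻¹]
  · rw [e, inv_inv, Finsupp.filter_apply_pos, hinv]
    rw [hg₀]
    show (Quotient.mk _ (Quotient.mk _ x).out).out = _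
    rw [Quotient.out_eq]
  · intro g _ hg
    rw [e, Finsupp.filter_apply_neg]
    intro h
    apply hg
    have h1 : r (g⁻¹ • x) = r x := congrArg Quotient.out (Quotient.sound (s := MulAction.orbitRel G T)
      (MulAction.mem_orbit x g⁻¹))
    have h2 : (g₀ * g) • (g⁻¹ • x) = g⁻¹ • x := by
      rw [mul_smul, smul_inv_smul, hg₀, ← h1, h]
    have := hfree _ _ h2
    exact eq_inv_of_mul_eq_one_right this
  · simp

omit [Fintype G] in
theorem mapDomain_smul_smul (a b : G) (f : T →₀ ℤ) :
    Finsupp.mapDomain (fun t => a • t) (Finsupp.mapDomain (fun t => b • t) f) =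
      Finsupp.mapDomain (fun t => (a * b) • t) f := by
  rw [← Finsupp.mapDomain_comp]
  exact congrArg (fun k => Finsupp.mapDomain k f) (funext fun t => (mul_smul a b t).symm)

/-- An element of a permutation module with norm zero is in the image of `σ - 1`. -/
theorem exists_sub_eq_of_sum_eq_zero (hσ : ∀ g, g ∈ Subgroup.zpowers σ)
    (f : T →₀ ℤ) (hf : ∑ g : G, Finsupp.mapDomain (fun t => g • t) f = 0) :
    ∃ h : T →₀ ℤ, Finsupp.mapDomain (fun t => σ • t) h - h = f := by
  classical
  let D : (T →₀ ℤ) →+ (T →₀ ℤ) := Finsupp.mapDomain.addMonoidHom (fun t => σ • t) - AddMonoidHom.id _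
  suffices f ∈ D.range from this
  let H : Subgroup G :=
    { carrier := {g | ∀ h, Finsupp.mapDomain (fun t => g • t) h - h ∈ D.range}
      one_mem' := fun h => by
        rw [show (fun t : T => (1 : G) • t) = id from funext fun t => one_smul G t, Finsupp.mapDomain_id, sub_self]
        exact zero_mem _
      mul_mem' := fun {a b} ha hb h => by
        rw [← mapDomain_smul_smul, ← sub_add_sub_cancel _ (Finsupp.mapDomain (fun t => b • t) h) h]
        exact add_mem (ha _) (hb h)
      inv_mem' := fun {a} ha h => by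
        have := ha (Finsupp.mapDomain (fun t => a⁻¹ • t) h)
        rw [mapDomain_smul_smul, mul_inv_cancel,
          show (fun t : T => (1 : G) • t) = id from funext fun t => one_smul G t, Finsupp.mapDomain_id] at this
        rw [← neg_sub]
        exact neg_mem this }
  have hσH : σ ∈ H := fun h => ⟨h, rfl⟩
  have hall : ∀ g h, Finsupp.mapDomain (fun t => g • t) h - h ∈ D.range :=
    fun g => (Subgroup.zpowers_le.2 hσH) (hσ g)
  let q : T → Quotient (MulAction.orbitRel G T) := fun t => Quotient.mk _ t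
  have hq : Finsupp.mapDomain q f = 0 := by
    have h := congrArg (Finsupp.mapDomain.addMonoidHom q) hf
    rw [map_sum, map_zero] at h
    have e : ∀ g : G, Finsupp.mapDomain.addMonoidHom q (Finsupp.mapDomain (fun t => g • t) f) =
        Finsupp.mapDomain q f := fun g => by
      show Finsupp.mapDomain q _ = _
      rw [← Finsupp.mapDomain_comp]
      exact congrArg (fun k => Finsupp.mapDomain k f)
        (funext fun t => Quotient.sound (s := MulAction.orbitRel G T) (MulAction.mem_orbit t g))
    rw [Finset.sum_congr rfl fun g _ => e g, Finset.sum_const, Finset.card_univ] at h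
    refine Finsupp.ext fun x => ?_
    have hx := congrArg (fun k => k x) h
    simp only [Finsupp.smul_apply, Finsupp.coe_zero, Pi.zero_apply] at hx ⊢
    exact (smul_eq_zero.1 hx).resolve_left Fintype.card_ne_zero
  have hs : ∀ h : T →₀ ℤ, Finsupp.mapDomain (fun t => (q t).out) h - h ∈ D.range := fun h => by
    induction h using Finsupp.induction_linear with
    | zero => rw [Finsupp.mapDomain_zero, sub_zero]; exact zero_mem _
    | add a b ha hb => rw [Finsupp.mapDomain_add, add_sub_add_comm]; exact add_mem ha hb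
    | single t n =>
      obtain ⟨g, hg⟩ := MulAction.mem_orbit_iff.1 (Quotient.mk_out (s := MulAction.orbitRel G T) t)
      have := hall g (Finsupp.single t n)
      rw [Finsupp.mapDomain_single, hg] at this
      rw [Finsupp.mapDomain_single]
      exact this
  have := hs f
  rw [show (fun t => (q t).out) = Quotient.out ∘ q from rfl, Finsupp.mapDomain_comp, hq, Finsupp.mapDomain_zero,
    zero_sub, neg_mem_iff] at this
  exact this

end combinatorics

variable {K : Type u} [Field K] {L : Type u} [Field L] [Algebra K L] [FiniteDimensional K L]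
  [Algebra.IsSeparable K L]

/-- The action of an automorphism on sections over the extension. -/
noncomputable def act (F : EtCoh.Ab (Spec (CommRingCat.of K))) (g : L ≃ₐ[K] L) :
    EtCoh.sect F (specObj K L) →+ EtCoh.sect F (specObj K L) :=
  (F.obj.map (specMap g.toAlgHom).op).hom

theorem act_mul (F : EtCoh.Ab (Spec (CommRingCat.of K))) (g h : L ≃ₐ[K] L) (x : EtCoh.sect F (specObj K L)) :
    act F (g * h) x = act F g (act F h x) := by
  refine Eq.trans ?_ (ConcreteCategory.congr_hom (F.obj.map_comp _ _) x)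
  exact congrArg (fun k => F.obj.map k x) (congrArg Quiver.Hom.op (specMap_comp h.toAlgHom g.toAlgHom).symm)

theorem act_nat {F G : EtCoh.Ab (Spec (CommRingCat.of K))} (φ : F ⟶ G) (g : L ≃ₐ[K] L)
    (x : EtCoh.sect F (specObj K L)) :
    φ.hom.app (op (specObj K L)) (act F g x) = act G g (φ.hom.app (op (specObj K L)) x) :=
  NatTrans.naturality_apply φ.hom (specMap g.toAlgHom).op x

/-- The sum over all automorphisms. -/
noncomputable def nrm (F : EtCoh.Ab (Spec (CommRingCat.of K))) :
    EtCoh.sect F (specObj K L) →+ EtCoh.sect F (specObj K L) :=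
  ∑ g : L ≃ₐ[K] L, act F g

theorem nrm_nat {F G : EtCoh.Ab (Spec (CommRingCat.of K))} (φ : F ⟶ G) (x : EtCoh.sect F (specObj K L)) :
    φ.hom.app (op (specObj K L)) (nrm F x) = nrm G (φ.hom.app (op (specObj K L)) x) := by
  simp only [nrm, AddMonoidHom.finsetSum_apply, map_sum, act_nat]

theorem act_nrm (F : EtCoh.Ab (Spec (CommRingCat.of K))) (h : L ≃ₐ[K] L) (x : EtCoh.sect F (specObj K L)) :
    act F h (nrm F x) = nrm F x := by
  simp only [nrm, AddMonoidHom.finsetSum_apply, map_sum, ← act_mul]
  exact Fintype.sum_equiv (Equiv.mulLeft h) _ _ fun g => rfl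

theorem nrm_act (F : EtCoh.Ab (Spec (CommRingCat.of K))) (h : L ≃ₐ[K] L) (x : EtCoh.sect F (specObj K L)) :
    nrm F (act F h x) = nrm F x := by
  simp only [nrm, AddMonoidHom.finsetSum_apply, ← act_mul]
  exact Fintype.sum_equiv (Equiv.mulRight h) _ _ fun g => rfl

theorem nrm_sub_act (F : EtCoh.Ab (Spec (CommRingCat.of K))) (h : L ≃ₐ[K] L) (x : EtCoh.sect F (specObj K L)) :
    nrm F (act F h x - x) = 0 := by
  rw [map_sub, nrm_act, sub_self]

/-- The group action on morphisms into `Spec L`. -/
noncomputable instance homAction (U : (Spec (CommRingCat.of K)).Etale) :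
    MulAction (L ≃ₐ[K] L) (U ⟶ specObj K L) where
  smul g j := j ≫ specMap g⁻¹.toAlgHom
  one_smul j := by
    show j ≫ specMap (1 : L ≃ₐ[K] L)⁻¹.toAlgHom = j
    rw [inv_one, show specMap ((1 : L ≃ₐ[K] L).toAlgHom) = 𝟙 (specObj K L) from
      MorphismProperty.Over.Hom.ext (Spec.map_id _), Category.comp_id]
  mul_smul g h j := by
    show j ≫ specMap (g * h)⁻¹.toAlgHom = (j ≫ specMap h⁻¹.toAlgHom) ≫ specMap g⁻¹.toAlgHom
    rw [Category.assoc, specMap_comp, mul_inv_rev]
    rfl

theorem smul_hom_def {U : (Spec (CommRingCat.of K)).Etale} (g : L ≃ₐ[K] L) (j : U ⟶ specObj K L) :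
    g • j = j ≫ specMap g⁻¹.toAlgHom := rfl

theorem hom_action_free {U : (Spec (CommRingCat.of K)).Etale} (hU : Nonempty U.left) (g : L ≃ₐ[K] L)
    (j : U ⟶ specObj K L) (h : g • j = j) : g = 1 := by
  obtain ⟨z⟩ := hU
  let a : Spec (U.left.residueField z) ⟶ Spec (CommRingCat.of L) := U.left.fromSpecResidueField z ≫ j.left
  have ha : a ≫ Spec.map (CommRingCat.ofHom g⁻¹.toAlgHom.toRingHom) = a := by
    rw [Category.assoc]
    exact congrArg (U.left.fromSpecResidueField z ≫ ·) (congrArg (fun q : U ⟶ specObj K L => q.left) h)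
  obtain ⟨α, hα⟩ := Spec.map_surjective a
  rw [← hα, ← Spec.map_comp] at ha
  have h2 := Spec.map_injective ha
  refine inv_eq_one.1 (AlgEquiv.ext fun x => α.hom.injective ?_)
  exact congrArg (fun f : CommRingCat.of L ⟶ U.left.residueField z => f.hom x) h2

theorem sect_eq_zero_of_isEmpty (F : EtCoh.Ab (Spec (CommRingCat.of K))) {U : (Spec (CommRingCat.of K)).Etale}
    (hU : IsEmpty U.left) (x : EtCoh.sect F U) : x = 0 :=
  Unr55.EtSh.sect_eq_zero_of_local F x fun z => hU.elim z

variable (L) in
/-- Morphisms into `Spec L`, in the universe of the coefficient groups. -/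
abbrev Pt (U : (Spec (CommRingCat.of K)).Etale) : Type (u + 1) := ULift.{u + 1} (U ⟶ specObj K L)

variable (L) in
/-- The free presheaf on `Spec L`. -/
noncomputable def freePsh : (Spec (CommRingCat.of K)).Etaleᵒᵖ ⥤ AddCommGrpCat.{u + 1} where
  obj U := AddCommGrpCat.of (Pt L U.unop →₀ ℤ)
  map f := AddCommGrpCat.ofHom (Finsupp.mapDomain.addMonoidHom fun j => ⟨f.unop ≫ j.down⟩)
  map_id U := by
    ext1
    refine AddMonoidHom.ext fun f => ?_
    show Finsupp.mapDomain _ f = f
    rw [show (fun j : Pt L U.unop => (⟨(𝟙 U).unop ≫ j.down⟩ : Pt L U.unop)) = id from funext fun j => ULift.ext _ _ (Category.id_comp j.down),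
      Finsupp.mapDomain_id]
  map_comp f g := by
    ext1
    refine AddMonoidHom.ext fun h => ?_
    show Finsupp.mapDomain _ h = Finsupp.mapDomain _ (Finsupp.mapDomain _ h)
    rw [← Finsupp.mapDomain_comp]
    exact congrArg (fun k => Finsupp.mapDomain k h) (funext fun j => ULift.ext _ _ (Category.assoc _ _ _))

/-- Linear extension of the evaluation of a section. -/
noncomputable def liftPt {F : EtCoh.Ab (Spec (CommRingCat.of K))} (x : EtCoh.sect F (specObj K L))
    (U : (Spec (CommRingCat.of K)).Etale) : (Pt L U →₀ ℤ) →+ EtCoh.sect F U :=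
  Finsupp.liftAddHom fun j => zmultiplesHom _ (F.obj.map j.down.op x)

theorem liftPt_single {F : EtCoh.Ab (Spec (CommRingCat.of K))} (x : EtCoh.sect F (specObj K L))
    (U : (Spec (CommRingCat.of K)).Etale) (j : Pt L U) (n : ℤ) :
    liftPt x U (Finsupp.single j n) = n • (F.obj.map j.down.op x : EtCoh.sect F U) :=
  (Finsupp.liftAddHom_apply_single _ _ _).trans (zmultiplesHom_apply _ _ _)

theorem map_liftPt {F : EtCoh.Ab (Spec (CommRingCat.of K))} (x : EtCoh.sect F (specObj K L))
    {U V : (Spec (CommRingCat.of K)).Etale} (f : V ⟶ U) (h : Pt L U →₀ ℤ) :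
    F.obj.map f.op (liftPt x U h) = liftPt x V (Finsupp.mapDomain (fun j : Pt L U => ⟨f ≫ j.down⟩) h) := by
  induction h using Finsupp.induction_linear with
  | zero => rw [map_zero, Finsupp.mapDomain_zero, map_zero, map_zero]
  | add a b ha hb => rw [map_add, Finsupp.mapDomain_add, map_add, map_add, ha, hb]
  | single j n =>
    rw [Finsupp.mapDomain_single, liftPt_single, liftPt_single, map_zsmul]
    exact congrArg (n • ·) (ConcreteCategory.congr_hom (F.obj.map_comp _ _) x).symm

theorem liftPt_smul {F : EtCoh.Ab (Spec (CommRingCat.of K))} (x : EtCoh.sect F (specObj K L))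
    (U : (Spec (CommRingCat.of K)).Etale) (g : L ≃ₐ[K] L) (f : Pt L U →₀ ℤ) :
    liftPt x U (Finsupp.mapDomain (fun j => g • j) f) = liftPt (act F g⁻¹ x) U f := by
  induction f using Finsupp.induction_linear with
  | zero => rw [Finsupp.mapDomain_zero, map_zero, map_zero]
  | add a b ha hb => rw [Finsupp.mapDomain_add, map_add, map_add, ha, hb]
  | single j n =>
    rw [Finsupp.mapDomain_single, liftPt_single, liftPt_single]
    exact congrArg (n • ·) (ConcreteCategory.congr_hom (F.obj.map_comp (specMap g⁻¹.toAlgHom).op j.down.op) x)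

theorem liftPt_add {F : EtCoh.Ab (Spec (CommRingCat.of K))} (x y : EtCoh.sect F (specObj K L))
    (U : (Spec (CommRingCat.of K)).Etale) (f : Pt L U →₀ ℤ) :
    liftPt (x + y) U f = liftPt x U f + liftPt y U f := by
  induction f using Finsupp.induction_linear with
  | zero => simp only [map_zero, add_zero]
  | add a b ha hb => rw [map_add, map_add, map_add, ha, hb, add_add_add_comm]
  | single j n => rw [liftPt_single, liftPt_single, liftPt_single, map_add, zsmul_add]

/-- The morphism from the free presheaf given by a section. -/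
noncomputable def ofSect {F : EtCoh.Ab (Spec (CommRingCat.of K))} (x : EtCoh.sect F (specObj K L)) :
    freePsh L ⟶ F.obj where
  app U := AddCommGrpCat.ofHom (liftPt x U.unop)
  naturality U V f := AddCommGrpCat.hom_ext (AddMonoidHom.ext fun h => (map_liftPt x f.unop h).symm)

theorem ofSect_single {F : EtCoh.Ab (Spec (CommRingCat.of K))} (x : EtCoh.sect F (specObj K L))
    (U : (Spec (CommRingCat.of K)).Etale) (j : U ⟶ specObj K L) :
    (ofSect x).app (op U) (Finsupp.single (⟨j⟩ : Pt L U) 1) = F.obj.map j.op x :=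
  (liftPt_single x U ⟨j⟩ 1).trans (one_zsmul _)

/-- The hom as an additive map of the section. -/
noncomputable def ofSectHom (F : EtCoh.Ab (Spec (CommRingCat.of K))) (U : (Spec (CommRingCat.of K)).Etale)
    (f : Pt L U →₀ ℤ) : EtCoh.sect F (specObj K L) →+ EtCoh.sect F U :=
  AddMonoidHom.mk' (fun x => liftPt x U f) fun x y => liftPt_add x y U f

/-- A section of an injective sheaf killing the kernel of an endomorphism extends along it. -/
theorem exists_factor {I : EtCoh.Ab (Spec (CommRingCat.of K))} [Injective I]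
    (D : freePsh (K := K) L ⟶ freePsh L) (x : EtCoh.sect I (specObj K L))
    (h : ∀ (U : (Spec (CommRingCat.of K)).Etale), Nonempty U.left → ∀ f : Pt L U →₀ ℤ,
      D.app (op U) f = 0 → liftPt x U f = 0) :
    ∃ ψ : freePsh L ⟶ I.obj, D ≫ ψ = ofSect x := by
  have : Injective I.obj := Injective.injective_of_adjoint
    (sheafificationAdjunction (Spec (CommRingCat.of K)).smallEtaleTopology AddCommGrpCat.{u + 1}) I
  have hk : kernel.ι D ≫ ofSect x = 0 := by
    ext U a
    show (ofSect x).app U ((kernel.ι D).app U a) = 0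
    rcases isEmpty_or_nonempty U.unop.left with hU | hU
    · exact sect_eq_zero_of_isEmpty I hU _
    · exact h _ hU _ (ConcreteCategory.congr_hom (congrArg (fun q => q.app U) (kernel.condition D)) a)
  refine ⟨Injective.factorThru (cokernel.desc (kernel.ι D) (ofSect x) hk) (Abelian.factorThruCoimage D), ?_⟩
  refine (congrArg (· ≫ _) (Abelian.coimage.fac D).symm).trans ((Category.assoc _ _ _).trans ?_)
  rw [Injective.comp_factorThru]
  exact cokernel.π_desc _ _ _

theorem app_single {F : EtCoh.Ab (Spec (CommRingCat.of K))} (ψ : freePsh L ⟶ F.obj)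
    (U : (Spec (CommRingCat.of K)).Etale) (j : U ⟶ specObj K L) :
    ψ.app (op U) (Finsupp.single ⟨j⟩ 1) = F.obj.map j.op (ψ.app (op (specObj K L)) (Finsupp.single ⟨𝟙 _⟩ 1)) := by
  refine Eq.trans ?_ (ConcreteCategory.congr_hom (ψ.naturality j.op) (Finsupp.single ⟨𝟙 _⟩ 1))
  refine congrArg (ψ.app (op U)) ?_
  show _ = Finsupp.mapDomain _ _
  rw [Finsupp.mapDomain_single, show j.op.unop ≫ 𝟙 (specObj K L) = j from Category.comp_id j]

variable (L) in
/-- Translation by an automorphism on the free presheaf. -/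
noncomputable def shift (g : L ≃ₐ[K] L) : freePsh (K := K) L ⟶ freePsh L where
  app U := AddCommGrpCat.ofHom (Finsupp.mapDomain.addMonoidHom fun j : Pt L U.unop => g • j)
  naturality U V f := by
    ext1
    refine AddMonoidHom.ext fun h => ?_
    show Finsupp.mapDomain _ (Finsupp.mapDomain _ h) = Finsupp.mapDomain _ (Finsupp.mapDomain _ h)
    rw [← Finsupp.mapDomain_comp, ← Finsupp.mapDomain_comp]
    exact congrArg (fun k => Finsupp.mapDomain k h) (funext fun j => ULift.ext _ _ (Category.assoc f.unop j.down (specMap g⁻¹.toAlgHom)).symm)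

variable (L) in
/-- The sum of all translations. -/
noncomputable def shiftSum : freePsh (K := K) L ⟶ freePsh L where
  app U := AddCommGrpCat.ofHom (∑ g : L ≃ₐ[K] L, ((shift L g).app U).hom)
  naturality U V f := by
    ext1
    refine AddMonoidHom.ext fun h => ?_
    show (∑ g : L ≃ₐ[K] L, ((shift L g).app V).hom) ((freePsh L).map f h) =
      (freePsh L).map f ((∑ g : L ≃ₐ[K] L, ((shift L g).app U).hom) h)
    simp only [AddMonoidHom.finsetSum_apply, map_sum]
    exact Finset.sum_congr rfl fun g _ => NatTrans.naturality_apply (shift L g) f h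

theorem shift_app (g : L ≃ₐ[K] L) (U : (Spec (CommRingCat.of K)).Etale) (f : Pt L U →₀ ℤ) :
    (shift L g).app (op U) f = (Finsupp.mapDomain (fun j : Pt L U => g • j) f : Pt L U →₀ ℤ) := rfl

theorem shiftSum_app (U : (Spec (CommRingCat.of K)).Etale) (f : Pt L U →₀ ℤ) :
    (shiftSum L).app (op U) f = (∑ g : L ≃ₐ[K] L, Finsupp.mapDomain (fun j : Pt L U => g • j) f : Pt L U →₀ ℤ) :=
  AddMonoidHom.finsetSum_apply (fun g => ((shift L g).app (op U)).hom) Finset.univ f

theorem shift_sub_app (g : L ≃ₐ[K] L) (U : (Spec (CommRingCat.of K)).Etale) (f : Pt L U →₀ ℤ) :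
    (shift L g - 𝟙 _).app (op U) f = (Finsupp.mapDomain (fun j : Pt L U => g • j) f - f : Pt L U →₀ ℤ) := rfl

variable (K L) in
/-- The generator of the free presheaf. -/
noncomputable def gen : Pt L (specObj K L) →₀ ℤ := Finsupp.single ⟨𝟙 _⟩ 1

theorem mapDomain_gen (g : L ≃ₐ[K] L) :
    Finsupp.mapDomain (fun j : Pt L (specObj K L) => g • j) (gen K L) =
      Finsupp.single (⟨specMap g⁻¹.toAlgHom⟩ : Pt L (specObj K L)) 1 := by
  rw [gen, Finsupp.mapDomain_single]
  exact congrArg (fun j => Finsupp.single j (1 : ℤ)) (ULift.ext _ _ (Category.id_comp _))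

/-- Sections of a morphism out of the free presheaf. -/
noncomputable def evalGen {F : EtCoh.Ab (Spec (CommRingCat.of K))} (ψ : freePsh L ⟶ F.obj) :
    (Pt L (specObj K L) →₀ ℤ) →+ EtCoh.sect F (specObj K L) :=
  (ψ.app (op (specObj K L))).hom

theorem evalGen_shift {F : EtCoh.Ab (Spec (CommRingCat.of K))} (ψ : freePsh L ⟶ F.obj) (g : L ≃ₐ[K] L) :
    evalGen ψ (Finsupp.mapDomain (fun j : Pt L (specObj K L) => g • j) (gen K L)) =
      act F g⁻¹ (evalGen ψ (gen K L)) := by
  rw [mapDomain_gen]
  exact app_single ψ (specObj K L) (specMap g⁻¹.toAlgHom)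

theorem evalGen_ofSect {F : EtCoh.Ab (Spec (CommRingCat.of K))} (x : EtCoh.sect F (specObj K L)) :
    evalGen (ofSect x) (gen K L) = x := by
  refine (ofSect_single x (specObj K L) (𝟙 _)).trans ?_
  rw [op_id, CategoryTheory.Functor.map_id]
  rfl

/-- An endomorphism of the free presheaf on the generators. -/
noncomputable def appGen (D : freePsh (K := K) L ⟶ freePsh L) :
    (Pt L (specObj K L) →₀ ℤ) →+ (Pt L (specObj K L) →₀ ℤ) :=
  (D.app (op (specObj K L))).hom

theorem appGen_shift (g : L ≃ₐ[K] L) (f : Pt L (specObj K L) →₀ ℤ) :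
    appGen (shift L g) f = Finsupp.mapDomain (fun j : Pt L (specObj K L) => g • j) f := rfl

theorem appGen_id (f : Pt L (specObj K L) →₀ ℤ) : appGen (𝟙 (freePsh L)) f = f := rfl

theorem appGen_sub (D E : freePsh (K := K) L ⟶ freePsh L) : appGen (D - E) = appGen D - appGen E := rfl

theorem evalGen_comp {F : EtCoh.Ab (Spec (CommRingCat.of K))} (D : freePsh L ⟶ freePsh L)
    (ψ : freePsh L ⟶ F.obj) (v : Pt L (specObj K L) →₀ ℤ) :
    evalGen (D ≫ ψ) v = evalGen ψ (appGen D v) := rfl

theorem evalGen_of_factor {F : EtCoh.Ab (Spec (CommRingCat.of K))} {D : freePsh L ⟶ freePsh L}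
    {ψ : freePsh L ⟶ F.obj} {x : EtCoh.sect F (specObj K L)} (h : D ≫ ψ = ofSect x) :
    evalGen ψ (appGen D (gen K L)) = x := by
  rw [← evalGen_comp, h, evalGen_ofSect]

/-- Norm-zero sections of an injective sheaf are differences. -/
theorem exists_act_sub_eq {I : EtCoh.Ab (Spec (CommRingCat.of K))} [Injective I] {σ : L ≃ₐ[K] L}
    (hσ : ∀ g, g ∈ Subgroup.zpowers σ) (x : EtCoh.sect I (specObj K L)) (hx : nrm I x = 0) :
    ∃ y, act I σ y - y = x := by
  have hσ' : ∀ g, g ∈ Subgroup.zpowers σ⁻¹ := by rwa [Subgroup.zpowers_inv]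
  obtain ⟨ψ, hψ⟩ := exists_factor (shift L σ⁻¹ - 𝟙 _) x fun U hU f hf => by
    have hf' : (Finsupp.mapDomain (fun j : Pt L U => σ⁻¹ • j) f - f : Pt L U →₀ ℤ) = (0 : Pt L U →₀ ℤ) := hf
    obtain ⟨h, rfl⟩ := exists_sum_eq_of_fixed (fun g (j : Pt L U) hg =>
      hom_action_free hU g j.down (congrArg ULift.down hg)) hσ' f (sub_eq_zero.1 hf')
    rw [map_sum, Finset.sum_congr rfl fun g _ => liftPt_smul x U g h]
    refine (map_sum (ofSectHom I U h) _ _).symm.trans ?_
    refine Eq.trans (congrArg (ofSectHom I U h) ?_) (map_zero _)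
    refine Eq.trans ?_ hx
    rw [nrm, AddMonoidHom.finsetSum_apply]
    exact Fintype.sum_equiv (Equiv.inv _) _ _ fun g => rfl
  refine ⟨evalGen ψ (gen K L), ?_⟩
  have e := evalGen_of_factor hψ
  rw [appGen_sub, AddMonoidHom.sub_apply, appGen_shift, appGen_id, map_sub, evalGen_shift, inv_inv] at e
  exact e

/-- Fixed sections of an injective sheaf are norms. -/
theorem exists_nrm_eq {I : EtCoh.Ab (Spec (CommRingCat.of K))} [Injective I] {σ : L ≃ₐ[K] L}
    (hσ : ∀ g, g ∈ Subgroup.zpowers σ) (x : EtCoh.sect I (specObj K L)) (hx : act I σ x = x) :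
    ∃ y, nrm I y = x := by
  have hσ' : ∀ g, g ∈ Subgroup.zpowers σ⁻¹ := by rwa [Subgroup.zpowers_inv]
  obtain ⟨ψ, hψ⟩ := exists_factor (shiftSum L) x fun U hU f hf => by
    have hf' : (∑ g : L ≃ₐ[K] L, Finsupp.mapDomain (fun j : Pt L U => g • j) f : Pt L U →₀ ℤ) = (0 : Pt L U →₀ ℤ) :=
      (shiftSum_app U f).symm.trans hf
    obtain ⟨h, rfl⟩ := exists_sub_eq_of_sum_eq_zero hσ' f hf' 
    rw [map_sub, liftPt_smul, inv_inv, hx, sub_self]
  refine ⟨evalGen ψ (gen K L), ?_⟩
  have e : evalGen ψ ((shiftSum L).app (op (specObj K L)) (gen K L)) = x :=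
    (ConcreteCategory.congr_hom (congrArg (fun q => NatTrans.app q (op (specObj K L))) hψ) (gen K L)).trans
      (evalGen_ofSect x)
  rw [shiftSum_app, map_sum] at e
  refine Eq.trans ?_ e
  rw [nrm, AddMonoidHom.finsetSum_apply]
  refine Fintype.sum_equiv (Equiv.inv _) _ _ fun g => ?_
  refine Eq.trans ?_ (evalGen_shift ψ g⁻¹).symm
  rw [inv_inv]

end Groth.Agent.GalCoh84
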