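import Groth.Agent.GalCoh84.Cohom

/-!
# From torsion coefficients to all coefficients
-/

set_option autoImplicit false
set_option backward.isDefEq.respectTransparency.types false
universe u

open CategoryTheory CategoryTheory.Limits CategoryTheory.Abelian AlgebraicGeometry Opposite
open Groth.Agent

namespace Groth.Agent.GalCoh84

section abstract

universe w v'

variable {C : Type*} [Category.{v'} C] [Abelian C] [HasExt.{w} C]

theorem nsmul_eq_zero_of_id {A B : C} {n q : ℕ} (hB : n • 𝟙 B = 0) (x : Ext.{w} A B q) : n • x = 0 := by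
  have h := congrArg (fun f => x.comp (Ext.mk₀ f) (add_zero q)) hB
  simp only [Ext.mk₀_zero, Ext.comp_zero, mk₀_nsmul] at h
  exact (congrArg (n • ·) (Ext.comp_mk₀_id x)).symm.trans
    ((map_nsmul ((Ext.bilinearComp A B B q 0 q (add_zero q)) x) n _).symm.trans h)

/-- If a property of coefficient objects killed by `n` forces classes to vanish, it does one degree higher
for all coefficient objects. -/
theorem eq_zero_of_killed {A F : C} (n : ℕ) {q : ℕ}
    (h0 : ∀ K : C, n • 𝟙 K = 0 → ∀ y : Ext.{w} A K q, y = 0)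
    (h1 : ∀ K : C, n • 𝟙 K = 0 → ∀ y : Ext.{w} A K (q + 1), y = 0)
    (x : Ext.{w} A F (q + 1)) (hx : n • x = 0) : x = 0 := by
  let μ : F ⟶ F := n • 𝟙 F
  have hK : n • 𝟙 (kernel μ) = 0 := by
    rw [← cancel_mono (kernel.ι μ), Preadditive.nsmul_comp, Category.id_comp, zero_comp, ← kernel.condition μ,
      Preadditive.comp_nsmul, Category.comp_id]
  have hC : n • 𝟙 (cokernel μ) = 0 := by
    rw [← cancel_epi (cokernel.π μ), Preadditive.comp_nsmul, Category.comp_id, comp_zero, ← cokernel.condition μ,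
      Preadditive.nsmul_comp, Category.id_comp]
  let e := Abelian.factorThruImage μ
  let i := Abelian.image.ι μ
  have hei : e ≫ i = μ := kernel.lift_ι _ _ _
  let S₂ : ShortComplex C := ShortComplex.mk i (cokernel.π μ) (kernel.condition _)
  have hS₂ : S₂.ShortExact := { exact := S₂.exact_of_f_is_kernel (kernelIsKernel _) }
  have w₁ : kernel.ι μ ≫ e = 0 := by
    rw [← cancel_mono i, Category.assoc, hei, kernel.condition, zero_comp]
  let S₁ : ShortComplex C := ShortComplex.mk (kernel.ι μ) e w₁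
  have hk : S₁.Exact := S₁.exact_of_f_is_kernel (isKernelOfComp i μ (kernelIsKernel μ) w₁ hei)
  have hS₁ : S₁.ShortExact := { exact := hk }
  have hxi : (x.comp (Ext.mk₀ e) (add_zero _)).comp (Ext.mk₀ i) (add_zero _) = 0 := by
    rw [Ext.comp_assoc_of_third_deg_zero, Ext.mk₀_comp_mk₀, hei]
    exact (congrArg (fun f => x.comp f (add_zero _)) (mk₀_nsmul n (𝟙 F))).trans
      ((map_nsmul ((Ext.bilinearComp A F F (q + 1) 0 (q + 1) (add_zero _)) x) n _).trans
        ((congrArg (n • ·) (Ext.comp_mk₀_id x)).trans hx))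
  obtain ⟨c, hc⟩ := Ext.covariant_sequence_exact₁ _ hS₂ _ hxi rfl
  have he : x.comp (Ext.mk₀ e) (add_zero _) = 0 := by rw [← hc, h0 _ hC c, Ext.zero_comp]
  obtain ⟨y, rfl⟩ := Ext.covariant_sequence_exact₂ _ hS₁ x he
  rw [h1 _ hK y, Ext.zero_comp]

end abstract

theorem isTorsion_of_nsmul_id {X : Scheme.{u}} {n : ℕ} (hn : 0 < n) {G : EtCoh.Ab X} (h : n • 𝟙 G = 0) :
    EtCoh.IsTorsion G := by
  intro U s x
  refine ⟨U, 𝟙 U, ⟨x, rfl⟩, isOfFinAddOrder_iff_nsmul_eq_zero.2 ⟨n, hn, ?_⟩⟩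
  have h' := congrArg (fun f : G ⟶ G => f.hom.app (op U) (G.obj.map (𝟙 U).op s)) h
  exact h'

/-- Cohomological dimension for all sheaves is at most one more than for torsion sheaves. -/
theorem eq_zero_above_cohDim_succ {k : Type u} [Field k] {p : ℕ} (hp : p.Prime) {q : ℕ}
    (h : ∀ (G : EtCoh.Ab (Spec (CommRingCat.of k))), EtCoh.IsTorsion G → ∀ q' : ℕ, q ≤ q' →
      ∀ x : EtCoh.H (Spec (CommRingCat.of k)) G q', (∃ m : ℕ, p ^ m • x = 0) → x = 0)
    (F : EtCoh.Ab (Spec (CommRingCat.of k))) (x : EtCoh.H (Spec (CommRingCat.of k)) F (q + 1)) {m : ℕ}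
    (hx : p ^ m • x = 0) : x = 0 :=
  eq_zero_of_killed (p ^ m)
    (fun K hK y => h K (isTorsion_of_nsmul_id (pow_pos hp.pos m) hK) q le_rfl y ⟨m, nsmul_eq_zero_of_id hK y⟩)
    (fun K hK y => h K (isTorsion_of_nsmul_id (pow_pos hp.pos m) hK) (q + 1) q.le_succ y ⟨m, nsmul_eq_zero_of_id hK y⟩)
    x hx

end Groth.Agent.GalCoh84
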