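import Groth.Agent.GalCoh84.Torsion
import Groth.Agent.GalCoh84.Devissage
import Groth.Agent.Unr55.Et.Unit
import Groth.Agent.EtCore45.SheafCrit
import Mathlib.GroupTheory.PGroup
import Mathlib.GroupTheory.Sylow

/-!
# Dévissage of finite p-primary sheaves over a field
-/

set_option autoImplicit false
set_option backward.isDefEq.respectTransparency.types false
universe u

open CategoryTheory CategoryTheory.Limits CategoryTheory.Abelian AlgebraicGeometry Opposite
open Groth.Agent Groth.Agent.Unr55.EtSh

namespace Groth.Agent.GalCoh84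

variable {K : Type u} [Field K]

/-- Germs are injective at objects with one point. -/
theorem germ_injective {Ω : Type u} [Field Ω] [IsSepClosed Ω] (η : Spec (CommRingCat.of Ω) ⟶ Spec (CommRingCat.of K))
    (F : EtCoh.Ab (Spec (CommRingCat.of K))) {U : (Spec (CommRingCat.of K)).Etale} [Subsingleton U.left]
    (t : Pt η U) : Function.Injective (germ η F t) := by
  refine (injective_iff_map_eq_zero _).2 fun σ hσ => ?_
  obtain ⟨V, g, t', -, h⟩ := (germ_eq_zero_iff η F t σ).1 hσ
  exact sect_eq_zero_of_local F σ fun x => ⟨V, g, hom η t' default, Subsingleton.elim _ _, h⟩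

instance (L : Type u) [Field L] [Algebra K L] [FiniteDimensional K L] [Algebra.IsSeparable K L] :
    Subsingleton (specObj K L).left := inferInstanceAs (Subsingleton (PrimeSpectrum L))

instance : Subsingleton (EtCoh.top (Spec (CommRingCat.of K))).left := inferInstanceAs (Subsingleton (PrimeSpectrum K))

/-- The point of a finite separable extension over a geometric point. -/
theorem exists_pt_specObj {Ω : Type u} [Field Ω] [IsSepClosed Ω] (η : Spec (CommRingCat.of Ω) ⟶ Spec (CommRingCat.of K))
    (L : Type u) [Field L] [Algebra K L] [FiniteDimensional K L] [Algebra.IsSeparable K L] :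
    ∃ l : Spec (CommRingCat.of Ω) ⟶ Spec (CommRingCat.of L),
      l ≫ Spec.map (CommRingCat.ofHom (algebraMap K L)) = η := by
  obtain ⟨φ, rfl⟩ := Spec.map_surjective η
  let : Algebra K Ω := φ.hom.toAlgebra
  let σ : L →ₐ[K] Ω := IsSepClosed.lift
  refine ⟨Spec.map (CommRingCat.ofHom σ.toRingHom), (Spec.map_comp _ _).symm.trans (congrArg Spec.map ?_)⟩
  exact CommRingCat.hom_ext (RingHom.ext σ.commutes)

/-- A nonzero sheaf has a nonzero section over a finite separable extension. -/
theorem exists_sect_ne_zero {F : EtCoh.Ab (Spec (CommRingCat.of K))} (hF : 𝟙 F ≠ 0) :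
    ∃ (L : Type u) (_ : Field L) (_ : Algebra K L) (_ : FiniteDimensional K L) (_ : Algebra.IsSeparable K L)
      (s : EtCoh.sect F (specObj K L)), s ≠ 0 := by
  by_contra hno
  push Not at hno
  refine hF (ObjectProperty.hom_ext _ (NatTrans.ext (funext fun U => ?_)))
  ext s
  refine sect_eq_zero_of_local F _ fun x => ?_
  obtain ⟨ι, M, _, _, _, _, e, he⟩ := (EtCore45.etale_field_iff U.unop.hom).1 U.unop.prop
  obtain ⟨i, z, hz⟩ := (sigmaOpenCover fun i => Spec (CommRingCat.of (M i))).exists_eq (e.inv x)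
  let g : specObj K (M i) ⟶ U.unop := MorphismProperty.Over.homMk
    (Sigma.ι (fun i => Spec (CommRingCat.of (M i))) i ≫ e.hom) ((Category.assoc _ _ _).trans (he i)) trivial
  refine ⟨_, g, z, ?_, hno (M i) inferInstance inferInstance inferInstance inferInstance _⟩
  show e.hom ((Sigma.ι (fun i => Spec (CommRingCat.of (M i))) i) z) = x
  rw [show (Sigma.ι (fun i => Spec (CommRingCat.of (M i))) i) z = e.inv x from hz, ← Scheme.Hom.comp_apply,
    Iso.inv_hom_id]
  rfl

/-- A section of order `p` gives an injection of the constant sheaf. -/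
theorem exists_mono_const {X : Scheme.{u}} (F : EtCoh.Ab X) {p : ℕ} [hp : Fact p.Prime]
    (s : EtCoh.sect F (EtCoh.top X)) (hs : p • s = 0)
    (hne : ∀ V : X.Etale, Nonempty V.left → F.obj.map ((EtCore.topIsTerminal X).from V).op s ≠ 0) :
    ∃ φ : EtCoh.const X (ZMod p) ⟶ F, Mono φ ∧ ∃ σ, φ.hom.app (op (EtCoh.top X)) σ = s := by
  let T := EtCore.topIsTerminal X
  let P := (Functor.const X.Etaleᵒᵖ).obj (AddCommGrpCat.of (ULift.{u + 1} (ZMod p)))
  let res : ∀ V : X.Etaleᵒᵖ, EtCoh.sect F (EtCoh.top X) →+ EtCoh.sect F V.unop := fun V => (F.obj.map (T.from V.unop).op).hom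
  have hps : ∀ V, p • res V s = 0 := fun V => by rw [← map_nsmul, hs, map_zero]
  let h : ∀ V : X.Etaleᵒᵖ, ZMod p →+ EtCoh.sect F V.unop := fun V =>
    ZMod.lift p ⟨zmultiplesHom _ (res V s), by rw [zmultiplesHom_apply, natCast_zsmul]; exact hps V⟩
  have hh : ∀ (V : X.Etaleᵒᵖ) (n : ℤ), h V (n : ZMod p) = n • res V s := fun V n => ZMod.lift_coe _ _ _
  let η : P ⟶ F.obj :=
    { app := fun V => AddCommGrpCat.ofHom ((h V).comp (AddEquiv.ulift (α := ZMod p)).toAddMonoidHom)
      naturality := fun V W g => by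
        refine ConcreteCategory.hom_ext _ _ fun z => ?_
        obtain ⟨n, hn⟩ := ZMod.intCast_surjective (show ULift.{u + 1} (ZMod p) from z).down
        show h W (show ULift.{u + 1} (ZMod p) from z).down = F.obj.map g (h V (show ULift.{u + 1} (ZMod p) from z).down)
        rw [← hn, hh, hh, map_zsmul]
        refine congrArg (n • ·) (Eq.trans ?_ (ConcreteCategory.congr_hom (F.obj.map_comp _ _) s))
        exact congrArg (fun q => F.obj.map q s) (congrArg Quiver.Hom.op (T.hom_ext (T.from W.unop) (g.unop ≫ T.from V.unop))) }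
  let φ : EtCoh.const X (ZMod p) ⟶ F := ObjectProperty.homMk (sheafifyLift X.smallEtaleTopology η F.property)
  have hφ : ∀ (U : X.Etale) (z : ULift.{u + 1} (ZMod p)),
      φ.hom.app (op U) ((toSheafify X.smallEtaleTopology P).app (op U) z) = η.app (op U) z := fun U z =>
    congrArg (fun k : P ⟶ F.obj => k.app (op U) z) (toSheafify_sheafifyLift X.smallEtaleTopology η F.property)
  refine ⟨φ, ?_, (toSheafify X.smallEtaleTopology P).app (op (EtCoh.top X)) ⟨1⟩, ?_⟩
  · have hinj : ∀ V : X.Etale, Function.Injective (φ.hom.app (op V)) := fun V => by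
      rw [injective_iff_map_eq_zero]
      intro z hz
      refine sect_eq_zero_of_local (EtCoh.const X (ZMod p)) z fun x => ?_
      have hmem := Presheaf.imageSieve_mem X.smallEtaleTopology (toSheafify X.smallEtaleTopology P) (U := op V) z
      obtain ⟨W, g, w, hw, m, hm⟩ : ∃ (W : X.Etale) (g : W ⟶ V) (w : W.left), g.left w = x ∧
          ∃ m : ULift.{u + 1} (ZMod p), (toSheafify X.smallEtaleTopology P).app (op W) m =
            (EtCoh.const X (ZMod p)).obj.map g.op z := by
        obtain ⟨W, g, w, hm, -, hw⟩ := (EtCore45.mem_et _).1 hmem x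
        exact ⟨W, g, w, hw, hm⟩
      refine ⟨W, g, w, hw, ?_⟩
      have h0 : η.app (op W) m = 0 := by
        rw [← hφ W m, hm, NatTrans.naturality_apply φ.hom g.op, hz, map_zero]
      obtain ⟨n, hn⟩ := ZMod.intCast_surjective m.down
      have h1 : n • res (op W) s = 0 := by
        refine Eq.trans ?_ h0
        show _ = h (op W) m.down
        rw [← hn, hh]
      have hm0 : m = 0 := ULift.ext _ _ (by
        rw [← hn]
        refine (ZMod.intCast_zmod_eq_zero_iff_dvd n p).2 ?_
        rw [← addOrderOf_eq_prime (hps (op W)) (hne W ⟨w⟩)]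
        exact addOrderOf_dvd_iff_zsmul_eq_zero.2 h1)
      rw [← hm, hm0]
      exact map_zero _
    refine mono_of_stalks φ fun Ω _ _ η' => (injective_iff_map_eq_zero _).2 fun a ha => ?_
    obtain ⟨U, t, σ, rfl⟩ := exists_germ_eq η' _ a
    rw [stalk_map_germ] at ha
    obtain ⟨V, g, t', h1, h2⟩ := (germ_eq_zero_iff η' F t _).1 ha
    refine (germ_eq_zero_iff η' _ t σ).2 ⟨V, g, t', h1, hinj V ?_⟩
    rw [NatTrans.naturality_apply φ.hom g.op, h2, map_zero]
  · refine (hφ _ _).trans ?_
    show h (op (EtCoh.top X)) (1 : ZMod p) = s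
    rw [show (1 : ZMod p) = ((1 : ℤ) : ZMod p) from Int.cast_one.symm, hh]
    show (1 : ℤ) • res (op (EtCoh.top X)) s = s
    rw [one_zsmul]
    exact (congrArg (fun q => F.obj.map q s) (congrArg Quiver.Hom.op (T.hom_ext (T.from _) (𝟙 _)))).trans
      (ConcreteCategory.congr_hom (F.obj.map_id _) s)

end Groth.Agent.GalCoh84
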