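import Groth.Agent.GalCoh84.Cohom
import Groth.Prelude.Def_EtGm
import Groth.Prelude.Def_GSzGalSym
import Mathlib.RepresentationTheory.Homological.GroupCohomology.Hilbert90

/-!
# Hilbert 90 for the étale cohomology of a field, and surjectivity of the Kummer map
-/

set_option autoImplicit false
set_option backward.isDefEq.respectTransparency.types false
universe u

open CategoryTheory CategoryTheory.Limits CategoryTheory.Abelian AlgebraicGeometry Opposite
open Groth.Agent

namespace Groth.Agent.GalCoh84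

/-- Evaluation at an object is left exact. -/
theorem sect_exact {X : Scheme.{u}} {S : ShortComplex (EtCoh.Ab X)} (hS : S.ShortExact) (U : X.Etale) :
    Function.Injective (S.f.hom.app (op U)) ∧
      ∀ a : EtCoh.sect S.X₂ U, S.g.hom.app (op U) a = 0 → ∃ b, S.f.hom.app (op U) b = a := by
  let Φ := sheafToPresheaf X.smallEtaleTopology AddCommGrpCat.{u + 1} ⋙ (evaluation _ _).obj (op U)
  have : Mono S.f := hS.mono_f
  refine ⟨(AddCommGrpCat.mono_iff_injective _).1 (inferInstanceAs (Mono (Φ.map S.f))), ?_⟩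
  exact (ShortComplex.ab_exact_iff (S.map Φ)).1 (hS.exact.map_of_mono_of_preservesKernel Φ hS.mono_f inferInstance)

variable {K : Type u} [Field K]

variable (N : Type u) [Field N] [Algebra K N] [FiniteDimensional K N] [Algebra.IsSeparable K N]

/-- Sections of `G_m` over a finite separable extension are the units of the extension. -/
noncomputable def unitsIso : EtCoh.sect (EtCoh.Gm (Spec (CommRingCat.of K))) (specObj K N) ≃+ Additive Nˣ :=
  (AddEquiv.ulift (α := Additive (Γ(Spec (CommRingCat.of N), ⊤) : Type u)ˣ)).trans (MulEquiv.toAdditive (Units.mapEquiv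
    (Scheme.ΓSpecIso (CommRingCat.of N)).commRingCatIsoToRingEquiv.toMulEquiv))

theorem unitsIso_map (σ : N →ₐ[K] N) (s : EtCoh.sect (EtCoh.Gm (Spec (CommRingCat.of K))) (specObj K N)) :
    (((unitsIso N ((EtCoh.Gm _).obj.map (specMap σ).op s)).toMul : Nˣ) : N) = σ ((unitsIso N s).toMul : Nˣ) := by
  let v : Additive (Γ(Spec (CommRingCat.of N), ⊤) : Type u)ˣ := s.down
  have h := ConcreteCategory.congr_hom (Scheme.ΓSpecIso_naturality (CommRingCat.ofHom σ.toRingHom))
    ((v.toMul : (Γ(Spec (CommRingCat.of N), ⊤) : Type u)ˣ) : (Γ(Spec (CommRingCat.of N), ⊤) : Type u))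
  exact h

/-- Hilbert 90: classes in `H¹(K, G_m)` vanish. -/
theorem H1_Gm_eq_zero (α : EtCoh.H (Spec (CommRingCat.of K)) (EtCoh.Gm (Spec (CommRingCat.of K))) 1) : α = 0 := by
  classical
  let F := EtCoh.Gm (Spec (CommRingCat.of K))
  let S := EtCore45.injSeq F
  have hS : S.ShortExact := EtCore45.injSeq_shortExact F
  have hI : Injective S.X₂ := inferInstanceAs (Injective (Injective.under F))
  have : Epi S.g := hS.epi_g
  have : Subsingleton (EtCoh.H (Spec (CommRingCat.of K)) S.X₂ 1) := Ext.subsingleton_of_injective (EtCoh.const (Spec (CommRingCat.of K)) ℤ) S.X₂ 0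
  obtain ⟨β, rfl⟩ := exists_comp_extClass hS (rfl : 0 + 1 = 1) α
  obtain ⟨φ, rfl⟩ := Ext.addEquiv₀.symm.surjective β
  let T := EtCore.topIsTerminal (Spec (CommRingCat.of K))
  obtain ⟨L, _, _, _, _, t₀, ht₀⟩ := exists_lift_ext S.g (EtDesc45.secZ T S.X₃ φ)
  let Ω := AlgebraicClosure K
  let N := IntermediateField.normalClosure K L Ω
  have hsep : Algebra.IsSeparable K N := by
    have hle : (N : IntermediateField K Ω) ≤ separableClosure K Ω := by
      refine iSup_le fun f => ?_
      rintro _ ⟨x, rfl⟩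
      exact mem_separableClosure_iff.2 ((Algebra.IsSeparable.isSeparable K x).map f f.injective)
    exact Algebra.IsSeparable.of_algHom K _ (IntermediateField.inclusion hle)
  have : FiniteDimensional K N := normalClosure.is_finiteDimensional K L Ω
  have : Normal K N := normalClosure.normal K L Ω
  have : IsGalois K N := ⟨⟩
  obtain ⟨ι⟩ : Nonempty (L →ₐ[K] N) := ⟨(normalClosure.algHomEquiv K L Ω).symm (IsAlgClosed.lift)⟩
  let t : EtCoh.sect S.X₂ (specObj K N) := S.X₂.obj.map (specMap ι).op t₀
  have ht : S.g.hom.app (op (specObj K N)) t = S.X₃.obj.map (T.from (specObj K N)).op (EtDesc45.secZ T S.X₃ φ) := by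
    refine (NatTrans.naturality_apply S.g.hom (specMap ι).op t₀).trans
      ((congrArg (S.X₃.obj.map (specMap ι).op) ht₀).trans ?_)
    refine (ConcreteCategory.congr_hom (S.X₃.obj.map_comp _ _) _).symm.trans ?_
    exact congrArg (fun k => S.X₃.obj.map k (EtDesc45.secZ T S.X₃ φ))
      (congrArg Quiver.Hom.op (T.hom_ext (specMap ι ≫ T.from _) (T.from _)))
  obtain ⟨hinj, hex⟩ := sect_exact hS (specObj K N)
  have hc : ∀ σ : Gal(N/K), ∃ c, S.f.hom.app (op (specObj K N)) c = S.X₂.obj.map (specMap σ.toAlgHom).op t - t := by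
    intro σ
    refine hex _ ?_
    rw [map_sub, sub_eq_zero, NatTrans.naturality_apply S.g.hom, ht]
    refine (ConcreteCategory.congr_hom (S.X₃.obj.map_comp _ _) _).symm.trans ?_
    exact congrArg (fun k => S.X₃.obj.map k (EtDesc45.secZ T S.X₃ φ))
      (congrArg Quiver.Hom.op (T.hom_ext (specMap σ.toAlgHom ≫ T.from _) (T.from _)))
  choose c hc using hc
  have hcoc : ∀ σ τ : Gal(N/K), c (σ * τ) = F.obj.map (specMap σ.toAlgHom).op (c τ) + c σ := by
    intro σ τ
    apply hinj
    rw [map_add, NatTrans.naturality_apply S.f.hom, hc, hc, hc, map_sub, sub_add_sub_cancel]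
    refine congrArg (· - t) (Eq.trans ?_ (ConcreteCategory.congr_hom (S.X₂.obj.map_comp _ _) t))
    exact congrArg (fun k => S.X₂.obj.map k t) (congrArg Quiver.Hom.op (specMap_comp τ.toAlgHom σ.toAlgHom).symm)
  obtain ⟨b, hb⟩ := groupCohomology.isMulCoboundary₁_of_isMulCocycle₁_of_aut_to_units
    (fun σ => (unitsIso (K := K) N (c σ)).toMul) (fun σ τ => Units.ext (by
      show ((unitsIso N (c (σ * τ))).toMul : N) = σ ((unitsIso N (c τ)).toMul : Nˣ) * ((unitsIso N (c σ)).toMul : Nˣ)
      rw [hcoc, map_add, toMul_add, Units.val_mul, unitsIso_map]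
      rfl))
  let b' := (unitsIso (K := K) N).symm (Additive.ofMul b)
  let t' : EtCoh.sect S.X₂ (specObj K N) := t - S.f.hom.app (op (specObj K N)) b'
  have hinv : ∀ τ : N →ₐ[K] N, S.X₂.obj.map (specMap τ).op t' = t' := by
    intro τ
    let σ : Gal(N/K) := AlgEquiv.ofBijective τ (Algebra.IsAlgebraic.algHom_bijective τ)
    show S.X₂.obj.map (specMap σ.toAlgHom).op t' = t'
    have h1 : F.obj.map (specMap σ.toAlgHom).op b' = b' + c σ := by
      apply (unitsIso (K := K) N).injective
      refine Additive.toMul.injective (Units.ext ?_)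
      rw [unitsIso_map, map_add, toMul_add, Units.val_mul]
      have h2 := congrArg (Units.val) (hb σ)
      simp only [b', AddEquiv.apply_symm_apply, toMul_ofMul, ← h2]
      rw [← Units.val_mul, mul_div_cancel]
      rfl
    simp only [t']
    rw [map_sub, ← NatTrans.naturality_apply S.f.hom, h1, map_add, hc]
    abel
  obtain ⟨u, hu⟩ := (descend_galois (N := N) S.X₂).2.ge hinv
  obtain ⟨ψ, rfl⟩ := (EtDesc45.secZ T S.X₂).surjective u
  refine (delta_mk₀_eq_zero_iff hS φ).2 ⟨ψ, (EtDesc45.secZ T S.X₃).injective ((descend_galois (N := N) S.X₃).1 ?_)⟩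
  rw [EtDesc45.secZ_comp, ← NatTrans.naturality_apply S.g.hom, hu, ← ht, map_sub, sub_eq_self]
  exact (ConcreteCategory.congr_hom (NatTrans.congr_app (congrArg (fun f => f.hom) S.zero) (op (specObj K N))) b')

/-- The Kummer map of a field is surjective. -/
theorem kummer_surjective {m : ℕ} (hm : Epi (EtCoh.powMap (Spec (CommRingCat.of K)) m)) :
    Function.Surjective (fun a : Kˣ => GalSym.kumClass hm (GalSym.specUnit K a)) := by
  intro α
  let X := Spec (CommRingCat.of K)
  let T := EtCore.topIsTerminal X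
  obtain ⟨β, rfl⟩ := Ext.covariant_sequence_exact₁ _ (EtSix.kummerShortExact hm) α (H1_Gm_eq_zero _) rfl
  obtain ⟨φ, rfl⟩ := Ext.addEquiv₀.symm.surjective β
  let s : ULift.{u + 1} (Additive (Γ(X, ⊤) : Type u)ˣ) := (((EtCore.constAdj X).homEquiv _ _) φ).hom (ULift.up 1)
  refine ⟨Units.map ((Scheme.ΓSpecIso (CommRingCat.of K)).hom.hom : _ →* K) s.down.toMul, ?_⟩
  refine congrArg (fun f => (Ext.mk₀ f).comp (EtSix.kummerShortExact hm).extClass (zero_add 1)) ?_
  apply ((EtCore.constAdj X).homEquiv _ _).injective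
  refine (Equiv.apply_symm_apply _ _).trans ?_
  ext n
  refine (GalSym.unitHom_apply X _ n).trans ?_
  have e : GalSym.specUnit K (Units.map ((Scheme.ΓSpecIso (CommRingCat.of K)).hom.hom : _ →* K) s.down.toMul) = s.down.toMul :=
    Units.ext (ConcreteCategory.congr_hom (Scheme.ΓSpecIso (CommRingCat.of K)).hom_inv_id
      (s.down.toMul : (Γ(X, ⊤) : Type u)))
  refine (congrArg (fun a => n.down • GalSym.unitSection X a) e).trans ?_
  refine (map_zsmul (((EtCore.constAdj X).homEquiv _ _) φ).hom n.down (ULift.up (1 : ℤ))).symm.trans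
    (congrArg _ (ULift.ext _ _ (show n.down • (1 : ℤ) = n.down by simp)))

end Groth.Agent.GalCoh84
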